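import Groth.Agent.H11Tor.Cover
import Groth.Agent.H13CI.FibreImm
import Groth.Agent.H13CI.Regular

/-!
Complete intersections along local maps of finite tor dimension (Avramov), the complete case.
-/

set_option autoImplicit false
set_option linter.style.haveILetI false
set_option linter.unusedSectionVars false

universe u

open IsLocalRing RingTheory.Sequence

namespace Groth.Agent.H11Tor

/-- A flat map of regular local rings with regular closed fibre over a map of complete local rings. -/
theorem exists_regular_square (A B : Type u) [CommRing A] [CommRing B] [IsLocalRing A] [IsLocalRing B]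
    [IsNoetherianRing A] [IsNoetherianRing B] [IsAdicComplete (maximalIdeal A) A] [IsAdicComplete (maximalIdeal B) B]
    [Algebra A B] [IsLocalHom (algebraMap A B)] :
    ∃ (R P : Type u) (_ : CommRing R) (_ : CommRing P) (_ : IsRegularLocalRing R) (_ : IsRegularLocalRing P)
      (ρ : R →+* A) (σ : P →+* B) (τ : R →+* P), Function.Surjective ρ ∧ Function.Surjective σ ∧
        σ.comp τ = (algebraMap A B).comp ρ ∧ IsLocalHom τ ∧ τ.Flat ∧
        IsRegularLocalRing (P ⧸ (maximalIdeal R).map τ) := by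
  obtain ⟨Λ, Λ', _, _, _, _, n, m, ρ, σ, τ, hΛΛ', hρ, hσ, hcomm, hloc, hflat, hfib⟩ :=
    H05EGA4.exists_flat_presentation A B
  have hΛ0 : IsField Λ ∨ CAlg.IsCohenRing Λ := hΛΛ'.elim (fun h => .inl h.2.1) (fun h => .inr h.2.1)
  have hΛ'0 : IsField Λ' ∨ CAlg.IsCohenRing Λ' := hΛΛ'.elim (fun h => .inl h.2.2) (fun h => .inr h.2.2)
  obtain ⟨_, _, _, -⟩ := H05EGA4.coefficientRing_spec hΛ0
  obtain ⟨_, _, _, -⟩ := H05EGA4.coefficientRing_spec hΛ'0
  haveI := H05EGA4.isRegularRing_of_isField_or_isCohenRing hΛ0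
  haveI := H05EGA4.isRegularRing_of_isField_or_isCohenRing hΛ'0
  haveI : IsRegularRing (MvPowerSeries (Fin n) Λ) := S5784.result Λ _
  haveI : IsRegularRing (MvPowerSeries (Fin m) Λ') := S5784.result Λ' _
  haveI : IsRegularLocalRing (MvPowerSeries (Fin n) Λ) := IsRegularLocalRing.of_isRegularRing_of_isLocalRing _
  haveI : IsRegularLocalRing (MvPowerSeries (Fin m) Λ') := IsRegularLocalRing.of_isRegularRing_of_isLocalRing _
  exact ⟨_, _, inferInstance, inferInstance, inferInstance, inferInstance, ρ, σ, τ, hρ, hσ, hcomm, hloc, hflat, hfib⟩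

section square

variable {A B R P : Type u} [CommRing A] [CommRing B] [CommRing R] [CommRing P] [IsLocalRing A] [IsLocalRing B]
  [IsRegularLocalRing R] [IsRegularLocalRing P] [Algebra A B] [IsLocalHom (algebraMap A B)]
  (ρ : R →+* A) (σ : P →+* B) (τ : R →+* P)

/-- The quotient of a square, as a flat algebra with regular closed fibre. -/
theorem exists_square_factor (hρ : Function.Surjective ρ) (hσ : Function.Surjective σ)
    (hcomm : σ.comp τ = (algebraMap A B).comp ρ) [IsLocalHom τ] (hflat : τ.Flat)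
    (hfib : IsRegularLocalRing (P ⧸ (maximalIdeal R).map τ)) :
    ∃ (_ : IsLocalRing (P ⧸ (RingHom.ker ρ).map τ)) (_ : Algebra A (P ⧸ (RingHom.ker ρ).map τ))
      (_ : IsLocalHom (algebraMap A (P ⧸ (RingHom.ker ρ).map τ))) (_ : Module.Flat A (P ⧸ (RingHom.ker ρ).map τ))
      (_ : IsRegularLocalRing ((P ⧸ (RingHom.ker ρ).map τ) ⧸
        (maximalIdeal A).map (algebraMap A (P ⧸ (RingHom.ker ρ).map τ)))),
      (RingHom.ker ρ).map τ ≤ RingHom.ker σ ∧
      ∃ g : (P ⧸ (RingHom.ker ρ).map τ) →ₐ[A] B, Function.Surjective g ∧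
        ∀ z, g (Ideal.Quotient.mk _ z) = σ z := by
  letI := τ.toAlgebra
  haveI : IsLocalHom (algebraMap R P) := ‹IsLocalHom τ›
  haveI : Module.Flat R P := hflat
  set J := (RingHom.ker ρ).map (algebraMap R P) with hJ
  let e := RingHom.quotientKerEquivOfSurjective hρ
  let ψ : A →+* P ⧸ J := (Ideal.quotientMap J (algebraMap R P) Ideal.le_comap_map).comp
    (e.symm : A →+* R ⧸ RingHom.ker ρ)
  have hψ : ∀ x, ψ (ρ x) = Ideal.Quotient.mk J (τ x) := fun x => by
    show Ideal.quotientMap J (algebraMap R P) Ideal.le_comap_map (e.symm (ρ x)) = _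
    rw [show e.symm (ρ x) = Ideal.Quotient.mk _ x from e.injective (by rw [RingEquiv.apply_symm_apply]; rfl),
      Ideal.quotientMap_mk]
    rfl
  have hkσ : J ≤ RingHom.ker σ := by
    refine Ideal.map_le_iff_le_comap.mpr fun x hx => ?_
    rw [Ideal.mem_comap, RingHom.mem_ker, show σ (algebraMap _ _ x) = algebraMap A B (ρ x) from RingHom.congr_fun hcomm x,
      RingHom.mem_ker.mp hx, map_zero]
  haveI : Nontrivial (P ⧸ J) := Ideal.Quotient.nontrivial_iff.mpr (ne_top_of_le_ne_top (RingHom.ker_ne_top σ) hkσ)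
  haveI : IsLocalRing (P ⧸ J) := IsLocalRing.of_surjective' _ Ideal.Quotient.mk_surjective
  haveI : IsLocalHom (Ideal.Quotient.mk J) := IsLocalHom.of_surjective _ Ideal.Quotient.mk_surjective
  have hψflat : ψ.Flat := (RingHom.Flat.of_bijective e.symm.bijective).comp (H13CI.flat_quotient_map (RingHom.ker ρ))
  haveI : IsLocalHom ρ := hρ.isLocalHom ρ
  have hmA : (maximalIdeal A).map ψ = ((maximalIdeal R).map τ).map (Ideal.Quotient.mk J) := by
    rw [← map_maximalIdeal_of_surjective ρ hρ, Ideal.map_map, Ideal.map_map]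
    congr 1
    exact RingHom.ext hψ
  have hle : J ≤ (maximalIdeal R).map τ := Ideal.map_mono (le_maximalIdeal (RingHom.ker_ne_top ρ))
  letI : Algebra A (P ⧸ J) := ψ.toAlgebra
  haveI : IsLocalHom (algebraMap A (P ⧸ J)) := ⟨fun a ha => by
    obtain ⟨x, rfl⟩ := hρ a
    have ha' : IsUnit (ψ (ρ x)) := ha
    rw [hψ, isUnit_map_iff] at ha'
    exact ((isUnit_map_iff τ x).mp ha').map ρ⟩
  refine ⟨inferInstance, inferInstance, inferInstance, RingHom.flat_algebraMap_iff.mp hψflat,
    IsRegularLocalRing.of_ringEquiv (R := P ⧸ (maximalIdeal R).map τ)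
      ((Ideal.quotEquivOfEq (show (maximalIdeal A).map (algebraMap A (P ⧸ J)) =
        ((maximalIdeal R).map τ).map (Ideal.Quotient.mk J) from hmA)).trans
        (DoubleQuot.quotQuotEquivQuotOfLE hle)).symm, hkσ,
    { Ideal.Quotient.lift J σ hkσ with
      commutes' := fun a => by
        obtain ⟨x, rfl⟩ := hρ a
        show Ideal.Quotient.lift J σ hkσ (ψ (ρ x)) = _
        rw [hψ]
        exact RingHom.congr_fun hcomm x }, fun b => ?_, fun z => rfl⟩
  obtain ⟨z, rfl⟩ := hσ b
  exact ⟨Ideal.Quotient.mk J z, rfl⟩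

/-- Finite tor dimension and a complete intersection target force the source to be one. -/
theorem square_descend [IsNoetherianRing A] (hρ : Function.Surjective ρ) (hσ : Function.Surjective σ)
    (hcomm : σ.comp τ = (algebraMap A B).comp ρ) [IsLocalHom τ] (hflat : τ.Flat)
    (hfib : IsRegularLocalRing (P ⧸ (maximalIdeal R).map τ)) (hB : Pi1.IsCompleteIntersection B)
    (hfd : Set.Finite {p : ℕ | ¬Subsingleton (DRing.Tor A p B (ResidueField A))}) :
    Pi1.IsCompleteIntersection A ∧
      ∃ (S : Type u) (_ : CommRing S) (_ : IsNoetherianRing S) (_ : IsLocalRing S) (_ : Algebra A S)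
        (_ : Module.Flat A S) (_ : IsRegularLocalRing (S ⧸ (maximalIdeal A).map (algebraMap A S)))
        (g : S →ₐ[A] B), Function.Surjective g ∧ RegIdeal (RingHom.ker g) := by
  classical
  obtain ⟨_, _, _, _, _, hle, g, hg, hgσ⟩ := exists_square_factor ρ σ τ hρ hσ hcomm hflat hfib
  letI := g.toRingHom.toAlgebra
  haveI : IsScalarTower A (P ⧸ (RingHom.ker ρ).map τ) B := .of_algebraMap_eq fun a => (g.commutes a).symm
  haveI : Module.Finite (P ⧸ (RingHom.ker ρ).map τ) B := Module.Finite.of_surjective (Algebra.linearMap _ B) hg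
  obtain ⟨n, hn⟩ := hfd.bddAbove
  have h1 : DRing.HasTorDimLE A n B := hasTorDimLE_of_tor_residue (R := A) (B := P ⧸ (RingHom.ker ρ).map τ) n B
    fun p hp => by
      refine ModuleCat.isZero_iff_subsingleton.mpr ?_
      by_contra hns
      exact absurd (hn hns) (not_le.mpr hp)
  obtain ⟨e, he⟩ := H8Props.PseudoCoh.exists_natCast_ge_ringKrullDim
    (ringKrullDim_lt_top (R := (P ⧸ (RingHom.ker ρ).map τ) ⧸
      (maximalIdeal A).map (algebraMap A (P ⧸ (RingHom.ker ρ).map τ))))
  have h2 := hasTorDimLE_of_regular_fibre (R := A) (B := P ⧸ (RingHom.ker ρ).map τ) e he n B h1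
  letI : Algebra (P ⧸ (RingHom.ker ρ).map τ) (P ⧸ RingHom.ker σ) := (Ideal.Quotient.factor hle).toAlgebra
  haveI : IsScalarTower P (P ⧸ (RingHom.ker ρ).map τ) (P ⧸ RingHom.ker σ) := .of_algebraMap_eq fun _ => rfl
  have h3 : DRing.HasTorDimLE (P ⧸ (RingHom.ker ρ).map τ) (e + n) (P ⧸ RingHom.ker σ) :=
    H8Props.PseudoCoh.hasTorDimLE_of_equiv (M := B)
      ({ (RingHom.quotientKerEquivOfSurjective hσ).toAddEquiv with
          map_smul' := fun w z => by
            obtain ⟨w, rfl⟩ := Ideal.Quotient.mk_surjective w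
            obtain ⟨z, rfl⟩ := Ideal.Quotient.mk_surjective z
            show σ (w * z) = g (Ideal.Quotient.mk _ w) * σ z
            rw [hgσ, map_mul] } :
        (P ⧸ RingHom.ker σ) ≃ₗ[P ⧸ (RingHom.ker ρ).map τ] B).symm h2
  have hJ : RegIdeal (RingHom.ker σ) := H13CI.exists_regular_ker σ hσ hB
  obtain ⟨hI, hK⟩ := Groth.Agent.S2200.result ((RingHom.ker ρ).map τ) (RingHom.ker σ) hle (RingHom.ker_ne_top σ)
    ⟨_, h3⟩ hJ
  refine ⟨?_, P ⧸ (RingHom.ker ρ).map τ, inferInstance, inferInstance, inferInstance, inferInstance,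
    inferInstance, inferInstance, g, hg, ?_⟩
  · letI := τ.toAlgebra
    haveI : IsLocalHom (algebraMap R P) := ‹IsLocalHom τ›
    haveI : Module.Flat R P := hflat
    obtain ⟨rs, hrs, hreg⟩ := (regIdeal_map_iff (RingHom.ker ρ) (RingHom.ker_ne_top ρ)).mp hI
    exact (H13CI.isCI_iff ρ hρ).mpr (H9CI.isCIKer_of_isRegular ρ hρ rs hreg hrs.symm)
  · have hker : RingHom.ker g = (RingHom.ker σ).map (Ideal.Quotient.mk ((RingHom.ker ρ).map τ)) := by
      ext w
      obtain ⟨z, rfl⟩ := Ideal.Quotient.mk_surjective w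
      rw [RingHom.mem_ker, hgσ, ← Ideal.mem_comap, Ideal.comap_map_of_surjective' _ Ideal.Quotient.mk_surjective,
        Ideal.mk_ker, sup_eq_left.mpr hle, RingHom.mem_ker]
    rw [hker]
    exact hK

end square

/-- Descent of complete intersections along local maps of finite tor dimension. -/
theorem ci_descend {A B : Type u} [CommRing A] [CommRing B] [IsLocalRing A] [IsLocalRing B]
    [IsNoetherianRing A] [IsNoetherianRing B] [IsAdicComplete (maximalIdeal A) A] [IsAdicComplete (maximalIdeal B) B]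
    [Algebra A B] [IsLocalHom (algebraMap A B)] (hB : Pi1.IsCompleteIntersection B)
    (hfd : Set.Finite {p : ℕ | ¬Subsingleton (DRing.Tor A p B (ResidueField A))}) :
    Pi1.IsCompleteIntersection A ∧
      ∃ (S : Type u) (_ : CommRing S) (_ : IsNoetherianRing S) (_ : IsLocalRing S) (_ : Algebra A S)
        (_ : Module.Flat A S) (_ : IsRegularLocalRing (S ⧸ (maximalIdeal A).map (algebraMap A S)))
        (g : S →ₐ[A] B), Function.Surjective g ∧ RegIdeal (RingHom.ker g) := by
  obtain ⟨R, P, _, _, _, _, ρ, σ, τ, hρ, hσ, hcomm, _, hflat, hfib⟩ := exists_regular_square A B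
  exact square_descend ρ σ τ hρ hσ hcomm hflat hfib hB hfd

/-- The closed fibre of a flat complete intersection map is a complete intersection. -/
theorem isCI_fibre {A B S : Type u} [CommRing A] [CommRing B] [CommRing S] [IsLocalRing A] [IsLocalRing B]
    [IsNoetherianRing S] [IsLocalRing S] [Algebra A B] [Algebra A S] [IsLocalHom (algebraMap A B)]
    [Module.Flat A B] [IsRegularLocalRing (S ⧸ (maximalIdeal A).map (algebraMap A S))]
    [IsLocalRing (B ⧸ (maximalIdeal A).map (algebraMap A B))]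
    (g : S →ₐ[A] B) (hg : Function.Surjective g) (hK : RegIdeal (RingHom.ker g)) :
    Pi1.IsCompleteIntersection (B ⧸ (maximalIdeal A).map (algebraMap A B)) := by
  classical
  obtain ⟨rs, hrs, hreg⟩ := hK
  haveI : IsLocalHom (algebraMap A S) := ⟨fun a ha => by
    have := ha.map g
    rw [AlgHom.commutes] at this
    exact isUnit_of_map_unit (algebraMap A B) a this⟩
  haveI : Module.Flat A (S ⧸ Ideal.ofList rs) := by
    rw [hrs]
    exact Module.Flat.of_linearEquiv (Ideal.quotientKerAlgEquivOfSurjective hg).toLinearEquiv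
  haveI : IsLocalization.AtPrime S (maximalIdeal S) :=
    IsLocalization.self (fun x hx => (IsLocalRing.notMem_maximalIdeal.mp hx))
  set mS := (maximalIdeal A).map (algebraMap A S) with hmS
  have hfibI : mS = (H13CI.FibreImm.fibreIdeal (A := A) (maximalIdeal S)).map (algebraMap S S) := by
    rw [Algebra.algebraMap_self, Ideal.map_id]
    show mS = ((maximalIdeal S).comap (algebraMap A S)).map (algebraMap A S)
    have h5 : (maximalIdeal S).comap (algebraMap A S) = maximalIdeal A :=
      ((local_hom_TFAE (algebraMap A S)).out 0 4).mp ‹IsLocalHom (algebraMap A S)›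
    rw [h5]
  have hq : ∀ r ∈ rs, r ∈ maximalIdeal S := fun r hr =>
    le_maximalIdeal (RingHom.ker_ne_top g) (hrs.le (Ideal.subset_span hr))
  have h := H13CI.FibreImm.isRegular_fibre' (A := A) (maximalIdeal S) S rs hreg.toIsWeaklyRegular hq mS hfibI
  have hmap : Ideal.ofList (rs.map ((Ideal.Quotient.mk mS).comp (algebraMap S S))) =
      (RingHom.ker g).map (Ideal.Quotient.mk mS) := by
    rw [← Ideal.map_ofList, hrs]
    rfl
  let gbar : S ⧸ mS →+* B ⧸ (maximalIdeal A).map (algebraMap A B) :=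
    Ideal.Quotient.lift mS ((Ideal.Quotient.mk _).comp g.toRingHom) (fun x hx => by
      refine (Ideal.Quotient.eq_zero_iff_mem).mpr ?_
      have := Ideal.mem_map_of_mem g.toRingHom hx
      rwa [hmS, Ideal.map_map, show g.toRingHom.comp (algebraMap A S) = algebraMap A B from g.comp_algebraMap] at this)
  have hgbar : Function.Surjective gbar := fun z => by
    obtain ⟨b, rfl⟩ := Ideal.Quotient.mk_surjective z
    obtain ⟨s, rfl⟩ := hg b
    exact ⟨Ideal.Quotient.mk mS s, rfl⟩
  have hker : RingHom.ker gbar = (RingHom.ker g).map (Ideal.Quotient.mk mS) := by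
    ext w
    obtain ⟨s, rfl⟩ := Ideal.Quotient.mk_surjective w
    have e1 : (maximalIdeal A).map (algebraMap A B) = mS.map g.toRingHom := by
      rw [hmS, Ideal.map_map, show g.toRingHom.comp (algebraMap A S) = algebraMap A B from g.comp_algebraMap]
    rw [RingHom.mem_ker, show gbar (Ideal.Quotient.mk mS s) = Ideal.Quotient.mk _ (g s) from rfl,
      Ideal.Quotient.eq_zero_iff_mem, e1]
    show s ∈ (mS.map g.toRingHom).comap g.toRingHom ↔ _
    rw [Ideal.comap_map_of_surjective' g.toRingHom hg,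
      ← Ideal.mem_comap, Ideal.comap_map_of_surjective' _ Ideal.Quotient.mk_surjective, Ideal.mk_ker, sup_comm]
    rfl
  exact (H13CI.isCI_iff gbar hgbar).mpr (H9CI.isCIKer_of_isRegular gbar hgbar _ h (hker.trans hmap.symm))

/-- A flat map of complete local rings: the target is a complete intersection iff the base and the closed fibre are. -/
theorem avramov_complete {A B : Type u} [CommRing A] [CommRing B] [IsLocalRing A] [IsLocalRing B]
    [IsNoetherianRing A] [IsNoetherianRing B] [IsAdicComplete (maximalIdeal A) A] [IsAdicComplete (maximalIdeal B) B]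
    [Algebra A B] [IsLocalHom (algebraMap A B)] [Module.Flat A B]
    [IsLocalRing (B ⧸ (maximalIdeal A).map (algebraMap A B))] :
    Pi1.IsCompleteIntersection B ↔
      (Pi1.IsCompleteIntersection A ∧ Pi1.IsCompleteIntersection (B ⧸ (maximalIdeal A).map (algebraMap A B))) := by
  constructor
  · intro hB
    have hfd : Set.Finite {p : ℕ | ¬Subsingleton (DRing.Tor A p B (ResidueField A))} := by
      refine (Set.finite_le_nat 0).subset fun p hp => ?_
      by_contra hpn
      exact hp ((H8Props.PseudoCoh.hasTorDimLE_of_flat (A := A) 0 B) _ p (not_le.mp hpn))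
    obtain ⟨hA, S, _, _, _, _, _, _, g, hg, hK⟩ := ci_descend hB hfd
    exact ⟨hA, isCI_fibre g hg hK⟩
  · rintro ⟨hA, hF⟩
    obtain ⟨R, P, _, _, _, _, ρ, σ, τ, hρ, hσ, hcomm, _, hflat, hfib⟩ := exists_regular_square A B
    exact H13CI.isCI_of_flat_of_fibre τ hflat hfib ρ hρ σ hσ (algebraMap A B)
      (RingHom.flat_algebraMap_iff.mpr inferInstance) hcomm hA hF

end Groth.Agent.H11Tor
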