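import Mathlib

/-!
Lifting a resolution along a square-zero element: a relation among the generators with coefficients
killing the element produces cycles in every even degree which are not boundaries.
-/

set_option autoImplicit false
set_option linter.style.haveILetI false
set_option linter.unusedSimpArgs false

universe u

namespace Groth.Agent.H11Tor

variable {A : Type u} [CommRing A]

/-- A free graded model of the Koszul complex of `f`, with the operator given by `r`. -/
structure Model {m : ℕ} (f r : Fin m → A) where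
  ι : Type u
  deg : ι → ℕ
  o : ι
  D : (ι →₀ A) →ₗ[A] (ι →₀ A)
  L : (ι →₀ A) →ₗ[A] (ι →₀ A)
  DD : ∀ x, D (D x) = 0
  LL : ∀ x, L (L x) = 0
  DL : ∀ x, D (L x) + L (D x) = (∑ j, r j * f j) • x
  degD : ∀ j, D (Finsupp.single j 1) ∈ Finsupp.supported A A {k | deg k + 1 = deg j}
  degL : ∀ j, L (Finsupp.single j 1) ∈ Finsupp.supported A A {k | deg k = deg j + 1}
  deg_o : deg o = 0
  eq_o : ∀ j, deg j = 0 → j = o
  deg_one : ∀ j, deg j = 1 → ∃ a ∈ Ideal.span (Set.range f), D (Finsupp.single j 1) = Finsupp.single o a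
  coeffL : ∀ x k, L x k ∈ Ideal.span (Set.range r)

theorem map_mem_of_basis {ι : Type u} {M : Type u} [AddCommGroup M] [Module A M] (φ : (ι →₀ A) →ₗ[A] M)
    (S : Submodule A M) (s : Set ι) (h : ∀ j ∈ s, φ (Finsupp.single j 1) ∈ S) :
    ∀ x ∈ Finsupp.supported A A s, φ x ∈ S := by
  intro x hx
  rw [← Finsupp.sum_single x, map_finsuppSum]
  refine Submodule.sum_mem _ fun j hj => ?_
  have : Finsupp.single j (x j) = x j • Finsupp.single j (1 : A) := by rw [Finsupp.smul_single', mul_one]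
  dsimp only
  rw [this, map_smul]
  exact S.smul_mem _ (h j ((Finsupp.mem_supported A x).mp hx hj))

theorem exists_model : ∀ {m : ℕ} (f r : Fin m → A), Nonempty (Model f r)
  | 0, f, r => ⟨{
      ι := PUnit, deg := fun _ => 0, o := PUnit.unit, D := 0, L := 0
      DD := fun _ => rfl, LL := fun _ => rfl, DL := fun x => by simp
      degD := fun _ => zero_mem _, degL := fun _ => zero_mem _
      deg_o := rfl, eq_o := fun _ _ => rfl, deg_one := fun j hj => absurd hj (by simp)
      coeffL := fun x k => by simp }⟩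
  | m + 1, f, r => by
    classical
    obtain ⟨K⟩ := exists_model (fun j : Fin m => f j.castSucc) (fun j : Fin m => r j.castSucc)
    let e : (K.ι ⊕ K.ι →₀ A) ≃ₗ[A] (K.ι →₀ A) × (K.ι →₀ A) := Finsupp.sumFinsuppLEquivProdFinsupp A
    let D₂ : (K.ι →₀ A) × (K.ι →₀ A) →ₗ[A] (K.ι →₀ A) × (K.ι →₀ A) :=
      (K.D.comp (LinearMap.fst A _ _) + f (Fin.last m) • LinearMap.snd A _ _).prod
        (-(K.D.comp (LinearMap.snd A _ _)))
    let L₂ : (K.ι →₀ A) × (K.ι →₀ A) →ₗ[A] (K.ι →₀ A) × (K.ι →₀ A) :=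
      (K.L.comp (LinearMap.fst A _ _)).prod
        (r (Fin.last m) • LinearMap.fst A _ _ - K.L.comp (LinearMap.snd A _ _))
    have einl : ∀ j a, e (Finsupp.single (Sum.inl j) a) = (Finsupp.single j a, 0) := fun j a => by
      ext <;> simp [e, Finsupp.single_apply]
    have einr : ∀ j a, e (Finsupp.single (Sum.inr j) a) = (0, Finsupp.single j a) := fun j a => by
      ext <;> simp [e, Finsupp.single_apply]
    let deg' : K.ι ⊕ K.ι → ℕ := Sum.elim K.deg fun j => K.deg j + 1
    have supp : ∀ (s : Set (K.ι ⊕ K.ι)) (a b : K.ι →₀ A),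
        a ∈ Finsupp.supported A A (Sum.inl ⁻¹' s) → b ∈ Finsupp.supported A A (Sum.inr ⁻¹' s) →
        e.symm (a, b) ∈ Finsupp.supported A A s := by
      intro s a b ha hb
      rw [Finsupp.mem_supported']
      rintro (j | j) hj
      · simpa [e] using (Finsupp.mem_supported' A a).mp ha j hj
      · simpa [e] using (Finsupp.mem_supported' A b).mp hb j hj
    refine ⟨{
      ι := K.ι ⊕ K.ι, deg := deg', o := Sum.inl K.o
      D := e.symm.toLinearMap.comp (D₂.comp e.toLinearMap)
      L := e.symm.toLinearMap.comp (L₂.comp e.toLinearMap)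
      DD := fun x => e.injective ?_, LL := fun x => e.injective ?_, DL := fun x => e.injective ?_
      degD := ?_, degL := ?_, deg_o := K.deg_o
      eq_o := ?_, deg_one := ?_, coeffL := ?_ }⟩
    · simp only [LinearMap.comp_apply, LinearEquiv.coe_coe, LinearEquiv.apply_symm_apply, map_zero]
      apply Prod.ext
      · simp [D₂, K.DD]
      · simp [D₂, K.DD]
    · simp only [LinearMap.comp_apply, LinearEquiv.coe_coe, LinearEquiv.apply_symm_apply, map_zero]
      apply Prod.ext
      · simp [L₂, K.LL]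
      · simp [L₂, K.LL]
    · simp only [LinearMap.comp_apply, LinearEquiv.coe_coe, map_add, map_smul, LinearEquiv.apply_symm_apply]
      rw [Fin.sum_univ_castSucc]
      apply Prod.ext
      · have h := K.DL (e x).1
        simp [D₂, L₂, smul_sub, smul_smul, add_smul]
        linear_combination (norm := module) h
      · have h := K.DL (e x).2
        simp [D₂, L₂, smul_sub, smul_smul, add_smul]
        linear_combination (norm := module) h
    · rintro (j | j)
      · simp only [LinearMap.comp_apply, LinearEquiv.coe_coe, einl]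
        refine supp _ _ _ ?_ ?_
        · simpa [D₂, deg'] using K.degD j
        · simp [D₂]
      · simp only [LinearMap.comp_apply, LinearEquiv.coe_coe, einr]
        refine supp _ _ _ ?_ ?_
        · simp only [D₂, LinearMap.prod_apply, Function.prod, LinearMap.add_apply, LinearMap.comp_apply,
            LinearMap.fst_apply, map_zero, zero_add, LinearMap.smul_apply, LinearMap.snd_apply]
          exact Submodule.smul_mem _ _ (Finsupp.single_mem_supported A 1 (show deg' (Sum.inl j) + 1 = deg' (Sum.inr j) from rfl))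
        · simp only [D₂, LinearMap.prod_apply, Function.prod, LinearMap.neg_apply, LinearMap.comp_apply, LinearMap.snd_apply]
          refine neg_mem (Finsupp.supported_mono ?_ (K.degD j))
          intro k hk
          show K.deg k + 1 + 1 = K.deg j + 1
          rw [show K.deg k + 1 = K.deg j from hk]
    · rintro (j | j)
      · simp only [LinearMap.comp_apply, LinearEquiv.coe_coe, einl]
        refine supp _ _ _ ?_ ?_
        · simpa [L₂, deg'] using K.degL j
        · simp only [L₂, LinearMap.prod_apply, Function.prod, LinearMap.sub_apply, LinearMap.comp_apply,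
            LinearMap.fst_apply, map_zero, sub_zero, LinearMap.smul_apply, LinearMap.snd_apply]
          exact Submodule.smul_mem _ _ (Finsupp.single_mem_supported A 1 (show deg' (Sum.inr j) = deg' (Sum.inl j) + 1 from rfl))
      · simp only [LinearMap.comp_apply, LinearEquiv.coe_coe, einr]
        refine supp _ _ _ ?_ ?_
        · simp [L₂]
        · simp only [L₂, LinearMap.prod_apply, Function.prod, LinearMap.sub_apply, LinearMap.comp_apply,
            LinearMap.fst_apply, map_zero, smul_zero, LinearMap.smul_apply, LinearMap.snd_apply, zero_sub]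
          refine neg_mem (Finsupp.supported_mono ?_ (K.degL j))
          intro k hk
          show K.deg k + 1 = K.deg j + 1 + 1
          rw [show K.deg k = K.deg j + 1 from hk]
    · rintro (j | j) hj
      · rw [K.eq_o j hj]
      · exact absurd (show K.deg j + 1 = 0 from hj) (Nat.succ_ne_zero _)
    · rintro (j | j) hj
      · obtain ⟨a, ha, hD⟩ := K.deg_one j hj
        refine ⟨a, Ideal.span_mono (by rintro _ ⟨i, rfl⟩; exact ⟨_, rfl⟩) ha, e.injective ?_⟩
        simp [einl, D₂, hD]
      · refine ⟨f (Fin.last m), Ideal.subset_span ⟨_, rfl⟩, e.injective ?_⟩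
        obtain rfl := K.eq_o j (by simpa [deg'] using hj)
        have h0 : K.D (Finsupp.single K.o 1) = 0 := by
          ext k
          exact (Finsupp.mem_supported' A _).mp (K.degD K.o) k (by simp [K.deg_o])
        simp [einl, einr, D₂, h0]
    · intro x k
      have hsub : Ideal.span (Set.range fun j : Fin m => r j.castSucc) ≤ Ideal.span (Set.range r) :=
        Ideal.span_mono (by rintro _ ⟨i, rfl⟩; exact ⟨_, rfl⟩)
      rcases k with k | k
      · simpa [e, L₂] using hsub (K.coeffL (e x).1 k)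
      · simp only [e, L₂, LinearMap.comp_apply, LinearEquiv.coe_coe, Finsupp.sumFinsuppLEquivProdFinsupp_symm_inr,
          LinearMap.prod_apply, Function.prod, LinearMap.sub_apply, LinearMap.smul_apply, LinearMap.fst_apply,
          LinearMap.snd_apply, Finsupp.sub_apply, Finsupp.smul_apply, smul_eq_mul]
        exact sub_mem (Ideal.mul_mem_right _ _ (Ideal.subset_span ⟨_, rfl⟩)) (hsub (K.coeffL _ k))

theorem eps_smul_eq_zero {ε : A} {J : Ideal A} (hJ : ∀ a : A, ε * a = 0 ↔ a ∈ J) {M : Type u}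
    [AddCommGroup M] [Module A M] {z : M} (hz : z ∈ J • (⊤ : Submodule A M)) : ε • z = 0 := by
  refine Submodule.smul_induction_on hz (fun a ha w _ => ?_) fun x y hx hy => by rw [smul_add, hx, hy, add_zero]
  rw [smul_smul, (hJ a).mpr ha, zero_smul]

theorem mem_smul_top_of_coord {J : Ideal A} {n : ℕ} {z : Fin n → A} (h : ∀ i, z i ∈ J) :
    z ∈ J • (⊤ : Submodule A (Fin n → A)) := by
  rw [pi_eq_sum_univ z]
  exact Submodule.sum_mem _ fun i _ => Submodule.smul_mem_smul (h i) trivial

theorem smul_range_mem {M : Type u} [AddCommGroup M] [Module A M] {ε : A} {J : Ideal A}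
    (hε : ε ∈ J) {w : M} : ε • w ∈ J • (⊤ : Submodule A M) := Submodule.smul_mem_smul hε trivial

/-- The core statement. -/
theorem core (ε g : A) (J : Ideal A) (hJ : ∀ a : A, ε * a = 0 ↔ a ∈ J) (hεJ : ε ∈ J) {m : ℕ}
    (fv rv : Fin m → A) (hsum : ∑ j, rv j * fv j = ε * g) (hrv : ∀ j, rv j ∈ J)
    (b : ℕ → ℕ) (d : ∀ n, (Fin (b (n + 1)) → A) →ₗ[A] (Fin (b n) → A)) (e₀ : Fin (b 0) → A)
    (hcx : ∀ n x, ∃ w, d n (d (n + 1) x) = ε • w)
    (hex : ∀ n x w, d n x = ε • w → ∃ y v, x = d (n + 1) y + ε • v)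
    (h0 : ∀ j, ∃ y v, fv j • e₀ = d 0 y + ε • v)
    (i : ℕ) (hkill : ∀ x, d (2 * i + 1) x ∈ J • (⊤ : Submodule A (Fin (b (2 * i + 1)) → A)) →
      ∃ y, x - d (2 * i + 2) y ∈ J • (⊤ : Submodule A (Fin (b (2 * i + 2)) → A))) :
    ∃ y, g ^ (i + 1) • e₀ - d 0 y ∈ J • (⊤ : Submodule A (Fin (b 0) → A)) := by
  classical
  obtain ⟨K⟩ := exists_model fv rv
  let inc : ℕ → (K.ι →₀ A) →ₗ[A] (ℕ × K.ι →₀ A) := fun p => Finsupp.lmapDomain A A fun j => (p, j)
  let dQ : (ℕ × K.ι →₀ A) →ₗ[A] (ℕ × K.ι →₀ A) :=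
    Finsupp.linearCombination A fun k : ℕ × K.ι => inc k.1 (K.D (Finsupp.single k.2 1)) +
      (if k.1 = 0 then 0 else inc (k.1 - 1) (K.L (Finsupp.single k.2 1)))
  let deg : ℕ × K.ι → ℕ := fun k => 2 * k.1 + K.deg k.2
  have inc_single : ∀ p j a, inc p (Finsupp.single j a) = Finsupp.single (p, j) a := fun p j a => by simp [inc]
  have hd0 : ∀ x, dQ (inc 0 x) = inc 0 (K.D x) := by
    intro x
    refine LinearMap.congr_fun (f := dQ.comp (inc 0)) (g := (inc 0).comp K.D) ?_ x
    refine Finsupp.lhom_ext' fun j => LinearMap.ext_ring ?_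
    simp [dQ, inc_single]
  have hd1 : ∀ p x, dQ (inc (p + 1) x) = inc (p + 1) (K.D x) + inc p (K.L x) := by
    intro p x
    refine LinearMap.congr_fun (f := dQ.comp (inc (p + 1))) (g := (inc (p + 1)).comp K.D + (inc p).comp K.L) ?_ x
    refine Finsupp.lhom_ext' fun j => LinearMap.ext_ring ?_
    simp [dQ, inc_single]
  have hdd0 : ∀ x, dQ (dQ (inc 0 x)) = 0 := fun x => by rw [hd0, hd0, K.DD, map_zero]
  have hdd1 : ∀ p x, dQ (dQ (inc (p + 1) x)) = (ε * g) • inc p x := by
    intro p x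
    rw [hd1, map_add, hd1]
    rcases p with - | p
    · rw [hd0, K.DD, map_zero, zero_add, ← map_add, add_comm (K.L (K.D x)), K.DL, hsum, map_smul]
    · rw [hd1, K.DD, map_zero, zero_add, K.LL, map_zero, add_zero, ← map_add, add_comm (K.L (K.D x)), K.DL, hsum, map_smul]
  have hdd : ∀ k : ℕ × K.ι, ∃ z, dQ (dQ (Finsupp.single k 1)) = ε • z := by
    rintro ⟨p, j⟩
    rw [← inc_single]
    rcases p with - | p
    · exact ⟨0, by rw [hdd0, smul_zero]⟩
    · exact ⟨_, by rw [hdd1, mul_smul]⟩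
  have inc_supp : ∀ (p : ℕ) (s : Set (ℕ × K.ι)) (x : K.ι →₀ A),
      x ∈ Finsupp.supported A A ((fun j => (p, j)) ⁻¹' s) → inc p x ∈ Finsupp.supported A A s := fun p s x hx =>
    map_mem_of_basis (inc p) _ _ (fun j hj => by rw [inc_single]; exact Finsupp.single_mem_supported A 1 hj) x hx
  have hdeg : ∀ k, dQ (Finsupp.single k 1) ∈ Finsupp.supported A A {l | deg l + 1 = deg k} := by
    rintro ⟨p, j⟩
    simp only [dQ, Finsupp.linearCombination_single, one_smul]
    refine add_mem (inc_supp _ _ _ (Finsupp.supported_mono ?_ (K.degD j))) ?_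
    · intro k hk
      show 2 * p + K.deg k + 1 = 2 * p + K.deg j
      rw [add_assoc, show K.deg k + 1 = K.deg j from hk]
    · split_ifs with hp
      · exact zero_mem _
      · refine inc_supp _ _ _ (Finsupp.supported_mono ?_ (K.degL j))
        intro k hk
        show 2 * (p - 1) + K.deg k + 1 = 2 * p + K.deg j
        rw [show K.deg k = K.deg j + 1 from hk]
        omega
  let εS : ∀ n, Submodule A (Fin (b n) → A) := fun n => LinearMap.range (ε • LinearMap.id)
  have mem_εS : ∀ {n} {z : Fin (b n) → A}, z ∈ εS n ↔ ∃ w, z = ε • w := fun {n} {z} =>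
    ⟨fun ⟨w, hw⟩ => ⟨w, hw.symm⟩, fun ⟨w, hw⟩ => ⟨w, hw.symm⟩⟩
  let Good : ∀ n, ((ℕ × K.ι →₀ A) →ₗ[A] (Fin (b n) → A)) → Prop := fun n φ =>
    ∀ k, deg k = n + 1 → φ (dQ (Finsupp.single k 1)) ∈ LinearMap.range (d n) ⊔ εS n
  have step : ∀ n (φ : (ℕ × K.ι →₀ A) →ₗ[A] (Fin (b n) → A)), Good n φ →
      ∃ φ' : (ℕ × K.ι →₀ A) →ₗ[A] (Fin (b (n + 1)) → A), Good (n + 1) φ' ∧
        ∀ x ∈ Finsupp.supported A A {k | deg k = n + 1}, d n (φ' x) - φ (dQ x) ∈ εS n := by
    intro n φ hφ
    have hch : ∀ k, ∃ y, deg k = n + 1 → d n y - φ (dQ (Finsupp.single k 1)) ∈ εS n := by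
      intro k
      by_cases hk : deg k = n + 1
      · obtain ⟨_, ⟨y, rfl⟩, z, hz, hyz⟩ := Submodule.mem_sup.mp (hφ k hk)
        exact ⟨y, fun _ => by rw [← hyz, sub_add_cancel_left]; exact neg_mem hz⟩
      · exact ⟨0, fun h => absurd h hk⟩
    choose y hy using hch
    let φ' := Finsupp.linearCombination A y
    have hrel : ∀ x ∈ Finsupp.supported A A {k | deg k = n + 1}, d n (φ' x) - φ (dQ x) ∈ εS n := fun x hx =>
      map_mem_of_basis ((d n).comp φ' - φ.comp dQ) _ _ (fun k hk => by simpa [φ'] using hy k hk) x hx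
    refine ⟨φ', fun k hk => ?_, hrel⟩
    have hmem : dQ (Finsupp.single k 1) ∈ Finsupp.supported A A {l | deg l = n + 1} :=
      Finsupp.supported_mono (fun l (hl : deg l + 1 = deg k) => by show deg l = n + 1; omega) (hdeg k)
    obtain ⟨z, hz⟩ := hdd k
    have h1 := hrel _ hmem
    rw [hz, map_smul] at h1
    obtain ⟨w, hw⟩ := mem_εS.mp h1
    obtain ⟨y', v, hv⟩ := hex n _ (w + φ z) (by rw [smul_add, ← hw, sub_add_cancel])
    exact Submodule.mem_sup.mpr ⟨_, ⟨y', rfl⟩, _, mem_εS.mpr ⟨v, rfl⟩, hv.symm⟩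
  choose next hnext using step
  let φ₀ : (ℕ × K.ι →₀ A) →ₗ[A] (Fin (b 0) → A) := Finsupp.linearCombination A fun _ => e₀
  have hφ₀ : Good 0 φ₀ := by
    rintro ⟨p, j⟩ hk
    obtain rfl : p = 0 := by simp only [deg] at hk; omega
    obtain ⟨a, ha, hD⟩ := K.deg_one j (by simpa [deg] using hk)
    rw [← inc_single, hd0, hD, inc_single]
    simp only [φ₀, Finsupp.linearCombination_single]
    clear hD
    induction ha using Submodule.span_induction with
    | mem x hx =>
      obtain ⟨l, rfl⟩ := hx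
      obtain ⟨y, v, h⟩ := h0 l
      exact h ▸ add_mem (Submodule.mem_sup_left ⟨y, rfl⟩) (Submodule.mem_sup_right (mem_εS.mpr ⟨v, rfl⟩))
    | zero => simp
    | add x y _ _ hx hy => rw [add_smul]; exact add_mem hx hy
    | smul c x _ hx => rw [smul_assoc]; exact Submodule.smul_mem _ c hx
  let seq : ∀ n, {φ : (ℕ × K.ι →₀ A) →ₗ[A] (Fin (b n) → A) // Good n φ} :=
    fun n => Nat.rec (motive := fun n => {φ : (ℕ × K.ι →₀ A) →ₗ[A] (Fin (b n) → A) // Good n φ}) ⟨φ₀, hφ₀⟩
      (fun n φ => ⟨next n φ.1 φ.2, (hnext n φ.1 φ.2).1⟩) n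
  have hchain : ∀ n, ∀ x ∈ Finsupp.supported A A {k | deg k = n + 1},
      d n ((seq (n + 1)).1 x) - (seq n).1 (dQ x) ∈ εS n := fun n => (hnext n (seq n).1 (seq n).2).2
  let X : ∀ p, Fin (b (2 * p)) → A := fun p => (seq (2 * p)).1 (Finsupp.single (p, K.o) 1)
  have hde : ∀ p, dQ (Finsupp.single (p + 1, K.o) 1) = inc p (K.L (Finsupp.single K.o 1)) := by
    intro p
    rw [← inc_single, hd1]
    have : K.D (Finsupp.single K.o 1) = 0 := by
      ext k
      exact (Finsupp.mem_supported' A _).mp (K.degD K.o) k (by simp [K.deg_o])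
    rw [this, map_zero, zero_add]
  have hspan : Ideal.span (Set.range rv) ≤ J := Ideal.span_le.mpr (by rintro _ ⟨j, rfl⟩; exact hrv j)
  have hcoef : ∀ p {M : Type u} [AddCommGroup M] [Module A M] (φ : (ℕ × K.ι →₀ A) →ₗ[A] M),
      φ (inc p (K.L (Finsupp.single K.o 1))) ∈ J • (⊤ : Submodule A M) := by
    intro p M _ _ φ
    have : K.L (Finsupp.single K.o 1) ∈ J • (⊤ : Submodule A (K.ι →₀ A)) := by
      rw [← Finsupp.sum_single (K.L (Finsupp.single K.o 1))]
      refine Submodule.sum_mem _ fun k _ => ?_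
      rw [← mul_one (K.L (Finsupp.single K.o 1) k), ← Finsupp.smul_single']
      exact Submodule.smul_mem_smul (hspan (K.coeffL _ k)) trivial
    have h2 : (φ.comp (inc p)) (K.L (Finsupp.single K.o 1)) ∈
        (J • (⊤ : Submodule A (K.ι →₀ A))).map (φ.comp (inc p)) := ⟨_, this, rfl⟩
    rw [Submodule.map_smul''] at h2
    exact Submodule.smul_mono le_rfl le_top h2
  have hX : ∀ p, ∃ u : Fin (b (2 * p + 1)) → A,
      d (2 * p) (d (2 * p + 1) (X (p + 1))) = ε • (g • X p + d (2 * p) u) ∧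
      d (2 * p + 1) (X (p + 1)) ∈ J • (⊤ : Submodule A (Fin (b (2 * p + 1)) → A)) := by
    intro p
    have he : Finsupp.single (p + 1, K.o) (1 : A) ∈ Finsupp.supported A A {k | deg k = (2 * p + 1) + 1} :=
      Finsupp.single_mem_supported A 1 (show 2 * (p + 1) + K.deg K.o = _ by rw [K.deg_o]; omega)
    obtain ⟨u, hu⟩ := mem_εS.mp (hchain (2 * p + 1) _ he)
    rw [sub_eq_iff_eq_add, hde] at hu
    have hX1 : d (2 * p + 1) (X (p + 1)) = ε • u + (seq (2 * p + 1)).1 (inc p (K.L (Finsupp.single K.o 1))) := hu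
    refine ⟨u, ?_, hX1 ▸ add_mem (smul_range_mem hεJ) (hcoef p _)⟩
    have hmem : inc p (K.L (Finsupp.single K.o 1)) ∈ Finsupp.supported A A {k | deg k = 2 * p + 1} :=
      inc_supp _ _ _ (Finsupp.supported_mono (fun k hk => by
        show 2 * p + K.deg k = 2 * p + 1
        rw [show K.deg k = K.deg K.o + 1 from hk, K.deg_o]) (K.degL K.o))
    have hδ : d (2 * p) ((seq (2 * p + 1)).1 (inc p (K.L (Finsupp.single K.o 1)))) =
        (seq (2 * p)).1 (dQ (inc p (K.L (Finsupp.single K.o 1)))) := by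
      rw [← sub_eq_zero]
      let δ := (d (2 * p)).comp (seq (2 * p + 1)).1 - (seq (2 * p)).1.comp dQ
      show δ _ = 0
      rw [← Finsupp.sum_single (inc p (K.L (Finsupp.single K.o 1))), map_finsuppSum]
      refine Finset.sum_eq_zero fun k hk => ?_
      dsimp only
      rw [← mul_one (inc p (K.L (Finsupp.single K.o 1)) k), ← Finsupp.smul_single', map_smul]
      obtain ⟨w, hw⟩ := mem_εS.mp (hchain (2 * p) (Finsupp.single k 1)
        (Finsupp.single_mem_supported A 1 ((Finsupp.mem_supported A _).mp hmem hk)))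
      have hk' : inc p (K.L (Finsupp.single K.o 1)) k ∈ J := by
        have h3 := hcoef p (M := A) (Finsupp.lapply k)
        rwa [smul_eq_mul, Ideal.mul_top] at h3
      show _ • (d (2 * p) ((seq (2 * p + 1)).1 (Finsupp.single k 1)) - (seq (2 * p)).1 (dQ (Finsupp.single k 1))) = 0
      rw [hw, smul_smul, mul_comm _ ε, (hJ _).mpr hk', zero_smul]
    rw [hX1, map_add, map_smul, hδ, ← hde, ← inc_single, hdd1, map_smul, mul_smul, inc_single, smul_add, add_comm]
  have down : ∀ p q, (∃ y, g ^ q • X (p + 1) - d (2 * p + 2) y ∈ J • (⊤ : Submodule A (Fin (b (2 * (p + 1))) → A))) →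
      ∃ y, g ^ (q + 1) • X p - d (2 * p) y ∈ J • (⊤ : Submodule A (Fin (b (2 * p)) → A)) := by
    rintro p q ⟨y, hy⟩
    obtain ⟨u, hu, -⟩ := hX p
    obtain ⟨v, hv⟩ := hcx (2 * p + 1) y
    have hj : d (2 * p) (d (2 * p + 1) (g ^ q • X (p + 1) - d (2 * p + 2) y)) = 0 := by
      refine Submodule.smul_induction_on hy (fun a ha w _ => ?_) fun x y hx hy => by rw [map_add, map_add, hx, hy, add_zero]
      obtain ⟨w', hw'⟩ := hcx (2 * p) w
      rw [map_smul, map_smul, hw', smul_smul, mul_comm a ε, (hJ a).mpr ha, zero_smul]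
    rw [map_sub, map_sub, map_smul, map_smul, hu, hv, map_smul, smul_comm, ← smul_sub] at hj
    refine ⟨v - g ^ q • u, mem_smul_top_of_coord fun l => (hJ _).mp ?_⟩
    have h2 := congrFun hj l
    have h3 : g ^ (q + 1) • X p - d (2 * p) (v - g ^ q • u) = g ^ q • (g • X p + d (2 * p) u) - d (2 * p) v := by
      rw [map_sub, map_smul, pow_succ, mul_smul, smul_add]
      abel
    rw [h3]
    simpa using h2
  obtain ⟨y, hy⟩ := hkill (X (i + 1)) (hX i).choose_spec.2
  have key : ∀ p q, p + q = i + 1 → ∃ y, g ^ q • X p - d (2 * p) y ∈ J • (⊤ : Submodule A (Fin (b (2 * p)) → A)) := by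
    intro p q
    induction q generalizing p with
    | zero =>
      intro hp
      obtain rfl : p = i + 1 := by omega
      exact ⟨y, by rw [pow_zero, one_smul]; exact hy⟩
    | succ q ih => intro hp; exact down p q (ih (p + 1) (by omega))
  obtain ⟨y', hy'⟩ := key 0 (i + 1) (Nat.zero_add _)
  refine ⟨y', ?_⟩
  have hX0 : X 0 = e₀ := by
    show φ₀ (Finsupp.single (0, K.o) 1) = e₀
    simp [φ₀]
  rwa [hX0] at hy'

end Groth.Agent.H11Tor
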