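import Groth.Agent.H11Tor.Good
import Groth.Agent.H13CI.RegularFibre
import Groth.Agent.H24Adic.CompletionMap

/-!
A flat algebra with regular closed fibre covering two given complete presentations of a complete algebra.
-/

set_option autoImplicit false
set_option linter.style.haveILetI false
set_option linter.unusedSectionVars false

universe u

open IsLocalRing

namespace Groth.Agent.H11Tor

/-- Elements of the completion are approximated by elements of the ring. -/
theorem exists_approx {C : Type u} [CommRing C] [IsLocalRing C] [IsNoetherianRing C] (n : ℕ)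
    (x : AdicCompletion (maximalIdeal C) C) :
    ∃ c : C, x - algebraMap C _ c ∈ maximalIdeal (AdicCompletion (maximalIdeal C) C) ^ n := by
  obtain ⟨c, hc⟩ := H24Adic.exists_sub_of_mem (IsNoetherian.noetherian (maximalIdeal C)) n x
  refine ⟨c, ?_⟩
  rw [AdicCompletion.maximalIdeal_eq_map, ← Ideal.map_pow]
  exact hc

/-- Two local maps out of a completion agreeing on the ring are equal. -/
theorem completion_hom_ext {C B : Type u} [CommRing C] [IsLocalRing C] [IsNoetherianRing C] [CommRing B]
    [IsLocalRing B] [IsNoetherianRing B] (u v : AdicCompletion (maximalIdeal C) C →+* B) [IsLocalHom u] [IsLocalHom v]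
    (h : ∀ c, u (algebraMap C _ c) = v (algebraMap C _ c)) : u = v := by
  ext x
  refine sub_eq_zero.mp ?_
  have : u x - v x ∈ (⊥ : Ideal B) := by
    rw [← Ideal.iInf_pow_eq_bot_of_isLocalRing (maximalIdeal B) (maximalIdeal.isMaximal B).ne_top, Ideal.mem_iInf]
    intro n
    obtain ⟨c, hc⟩ := exists_approx n x
    have key : ∀ (w : AdicCompletion (maximalIdeal C) C →+* B) [IsLocalHom w],
        w x - w (algebraMap C _ c) ∈ maximalIdeal B ^ n := fun w _ => by
      rw [← map_sub]
      have h1 := Ideal.mem_map_of_mem w hc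
      rw [Ideal.map_pow] at h1
      exact Ideal.pow_right_mono (map_maximalIdeal_le w) n h1
    have h2 := sub_mem (key u) (key v)
    rwa [h c, sub_sub_sub_cancel_right] at h2
  simpa using this

/-- The extension of a surjection onto a complete local ring to the completion, with its kernel. -/
theorem exists_completion_extend {S B : Type u} [CommRing S] [IsLocalRing S] [IsNoetherianRing S] [CommRing B]
    [IsLocalRing B] [IsNoetherianRing B] [IsAdicComplete (maximalIdeal B) B] (g : S →+* B)
    (hg : Function.Surjective g) :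
    ∃ gh : AdicCompletion (maximalIdeal S) S →+* B, IsLocalHom gh ∧ Function.Surjective gh ∧
      gh.comp (algebraMap S _) = g ∧
      RingHom.ker gh = (RingHom.ker g).map (algebraMap S (AdicCompletion (maximalIdeal S) S)) := by
  haveI : IsLocalHom g := hg.isLocalHom g
  haveI := H05EGA4.isNoetherianRing_adicCompletion S (maximalIdeal S)
  obtain ⟨ψ, hψ⟩ := H13CI.exists_completion_map g
  haveI := H02CA.isLocalHom_completion g ψ hψ
  let e : B ≃+* AdicCompletion (maximalIdeal B) B :=
    RingEquiv.ofBijective (algebraMap B (AdicCompletion (maximalIdeal B) B)) (AdicCompletion.of_bijective (maximalIdeal B) B)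
  let gh : AdicCompletion (maximalIdeal S) S →+* B := (e.symm : AdicCompletion (maximalIdeal B) B →+* B).comp ψ
  haveI hloc : IsLocalHom gh := ⟨fun z hz => by
    have := hz.map (e : B →+* AdicCompletion (maximalIdeal B) B)
    exact isUnit_of_map_unit ψ z (by simpa [gh] using this)⟩
  have hgh : ∀ s, gh (algebraMap S _ s) = g s := fun s => by
    have h := RingHom.congr_fun hψ s
    simp only [RingHom.comp_apply] at h
    show e.symm (ψ (algebraMap S _ s)) = g s
    rw [h]
    exact e.symm_apply_apply (g s)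
  refine ⟨gh, hloc, fun b => ?_, RingHom.ext hgh, ?_⟩
  · obtain ⟨s, rfl⟩ := hg b
    exact ⟨_, hgh s⟩
  refine le_antisymm (fun z hz => ?_) (Ideal.map_le_iff_le_comap.mpr fun s hs => by
    rw [Ideal.mem_comap, RingHom.mem_ker, hgh]; exact hs)
  refine H05EGA4.mem_of_forall_mem_sup_pow fun n => ?_
  obtain ⟨s, hs⟩ := exists_approx n z
  have h1 : gh z - g s ∈ maximalIdeal B ^ n := by
    rw [← hgh, ← map_sub]
    have h1 := Ideal.mem_map_of_mem gh hs
    rw [Ideal.map_pow] at h1
    exact Ideal.pow_right_mono (map_maximalIdeal_le gh) n h1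
  rw [RingHom.mem_ker.mp hz, zero_sub, neg_mem_iff] at h1
  rw [← IsLocalRing.map_maximalIdeal_of_surjective g hg, ← Ideal.map_pow,
    Ideal.mem_map_iff_of_surjective g hg] at h1
  obtain ⟨t, ht, htg⟩ := h1
  have e1 : z = (z - algebraMap S _ s) + algebraMap S _ (s - t) + algebraMap S _ t := by rw [map_sub]; abel
  rw [e1]
  refine add_mem (add_mem (Submodule.mem_sup_right hs) (Submodule.mem_sup_left (Ideal.mem_map_of_mem _ ?_))) ?_
  · rw [RingHom.mem_ker, map_sub, htg, sub_self]
  · refine Submodule.mem_sup_right ?_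
    rw [AdicCompletion.maximalIdeal_eq_map, ← Ideal.map_pow]
    exact Ideal.mem_map_of_mem _ ht

/-- A good factorization of a local map into a complete ring. -/
theorem exists_factor {A C : Type u} [CommRing A] [CommRing C] [IsLocalRing A] [IsLocalRing C] [IsNoetherianRing A]
    [IsNoetherianRing C] [IsAdicComplete (maximalIdeal A) A] [IsAdicComplete (maximalIdeal C) C]
    [Algebra A C] [IsLocalHom (algebraMap A C)] :
    ∃ (W : Type u) (_ : CommRing W) (_ : IsNoetherianRing W) (_ : IsLocalRing W) (_ : Algebra A W)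
      (_ : IsLocalHom (algebraMap A W)) (_ : Module.Flat A W)
      (_ : IsRegularLocalRing (W ⧸ (maximalIdeal A).map (algebraMap A W))) (p : W →ₐ[A] C), Function.Surjective p := by
  obtain ⟨Λ, Λ', _, _, _, _, n, m, ρ, σ, τ, hΛΛ', hρ, hσ, hcomm, hloc, hflat, hfib⟩ :=
    H05EGA4.exists_flat_presentation A C
  have hΛ'0 : IsField Λ' ∨ CAlg.IsCohenRing Λ' := hΛΛ'.elim (fun h => .inl h.2.2) (fun h => .inr h.2.2)
  obtain ⟨_, _, _, -⟩ := H05EGA4.coefficientRing_spec hΛ'0
  haveI := H05EGA4.isRegularRing_of_isField_or_isCohenRing hΛ'0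
  haveI : IsRegularRing (MvPowerSeries (Fin m) Λ') := S5784.result Λ' _
  letI := τ.toAlgebra
  haveI : IsLocalHom (algebraMap (MvPowerSeries (Fin n) Λ) (MvPowerSeries (Fin m) Λ')) := hloc
  haveI : Module.Flat (MvPowerSeries (Fin n) Λ) (MvPowerSeries (Fin m) Λ') := hflat
  set J := (RingHom.ker ρ).map (algebraMap (MvPowerSeries (Fin n) Λ) (MvPowerSeries (Fin m) Λ')) with hJ
  let e := RingHom.quotientKerEquivOfSurjective hρ
  let ψ : A →+* MvPowerSeries (Fin m) Λ' ⧸ J :=
    (Ideal.quotientMap J (algebraMap (MvPowerSeries (Fin n) Λ) (MvPowerSeries (Fin m) Λ')) Ideal.le_comap_map).comp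
      (e.symm : A →+* MvPowerSeries (Fin n) Λ ⧸ RingHom.ker ρ)
  have hψ : ∀ x, ψ (ρ x) = Ideal.Quotient.mk J (τ x) := fun x => by
    show Ideal.quotientMap J (algebraMap (MvPowerSeries (Fin n) Λ) (MvPowerSeries (Fin m) Λ')) Ideal.le_comap_map (e.symm (ρ x)) = _
    rw [show e.symm (ρ x) = Ideal.Quotient.mk _ x from e.injective (by rw [RingEquiv.apply_symm_apply]; rfl),
      Ideal.quotientMap_mk]
    rfl
  have hkσ : ∀ z ∈ J, σ z = 0 := by
    intro z hz
    refine (Ideal.map_le_iff_le_comap.mpr ?_ : J ≤ RingHom.ker σ) hz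
    intro x hx
    rw [Ideal.mem_comap, RingHom.mem_ker, show σ (algebraMap _ _ x) = algebraMap A C (ρ x) from RingHom.congr_fun hcomm x,
      RingHom.mem_ker.mp hx, map_zero]
  let p₀ : MvPowerSeries (Fin m) Λ' ⧸ J →+* C := Ideal.Quotient.lift J σ hkσ
  have hp₀ : Function.Surjective p₀ := fun c => by
    obtain ⟨z, rfl⟩ := hσ c
    exact ⟨Ideal.Quotient.mk J z, rfl⟩
  haveI : Nontrivial (MvPowerSeries (Fin m) Λ' ⧸ J) := ⟨⟨0, 1, fun h => zero_ne_one (α := C) (by
    rw [← map_zero p₀, h, map_one])⟩⟩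
  haveI : IsLocalRing (MvPowerSeries (Fin m) Λ' ⧸ J) := IsLocalRing.of_surjective' _ Ideal.Quotient.mk_surjective
  haveI : IsLocalHom (Ideal.Quotient.mk J) := IsLocalHom.of_surjective _ Ideal.Quotient.mk_surjective
  letI : Algebra A (MvPowerSeries (Fin m) Λ' ⧸ J) := ψ.toAlgebra
  have hψflat : ψ.Flat := (RingHom.Flat.of_bijective e.symm.bijective).comp (H13CI.flat_quotient_map (RingHom.ker ρ))
  haveI : IsLocalHom ρ := hρ.isLocalHom ρ
  have hmA : (maximalIdeal A).map ψ =
      ((maximalIdeal (MvPowerSeries (Fin n) Λ)).map τ).map (Ideal.Quotient.mk J) := by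
    rw [← map_maximalIdeal_of_surjective ρ hρ, Ideal.map_map, Ideal.map_map]
    congr 1
    exact RingHom.ext hψ
  have hle : J ≤ (maximalIdeal (MvPowerSeries (Fin n) Λ)).map τ :=
    Ideal.map_mono (le_maximalIdeal (RingHom.ker_ne_top ρ))
  let pA : (MvPowerSeries (Fin m) Λ' ⧸ J) →ₐ[A] C :=
    { p₀ with
      commutes' := fun a => by
        obtain ⟨x, rfl⟩ := hρ a
        show p₀ (ψ (ρ x)) = _
        rw [hψ]
        exact RingHom.congr_fun hcomm x }
  refine ⟨MvPowerSeries (Fin m) Λ' ⧸ J, inferInstance, inferInstance, inferInstance, inferInstance, ?_,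
    RingHom.flat_algebraMap_iff.mp hψflat,
    IsRegularLocalRing.of_ringEquiv (R := MvPowerSeries (Fin m) Λ' ⧸ (maximalIdeal (MvPowerSeries (Fin n) Λ)).map τ)
      ((Ideal.quotEquivOfEq (show (maximalIdeal A).map (algebraMap A (MvPowerSeries (Fin m) Λ' ⧸ J)) =
        ((maximalIdeal (MvPowerSeries (Fin n) Λ)).map τ).map (Ideal.Quotient.mk J) from hmA)).trans
        (DoubleQuot.quotQuotEquivQuotOfLE hle)).symm, pA, hp₀⟩
  exact ⟨fun a ha => by
    obtain ⟨x, rfl⟩ := hρ a
    have ha' : IsUnit (ψ (ρ x)) := ha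
    rw [hψ, isUnit_map_iff] at ha'
    exact ((isUnit_map_iff τ x).mp ha').map ρ⟩

theorem isNoetherian_of_surjective_algebraMap {C S : Type u} [CommRing C] [CommRing S] [Algebra C S]
    [IsNoetherianRing S] (h : Function.Surjective (algebraMap C S)) : IsNoetherian C S := by
  refine ⟨fun N => ?_⟩
  let I : Ideal S :=
    { carrier := N, add_mem' := fun ha hb => add_mem ha hb, zero_mem' := zero_mem _,
      smul_mem' := fun s x hx => by
        obtain ⟨c, rfl⟩ := h s
        rw [smul_eq_mul, ← Algebra.smul_def]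
        exact N.smul_mem c hx }
  obtain ⟨t, ht⟩ := (IsNoetherian.noetherian I : I.FG)
  refine ⟨t, ?_⟩
  have h1 := Submodule.restrictScalars_span C S h (t : Set S)
  refine le_antisymm (Submodule.span_le.mpr fun x hx => show x ∈ I from ht ▸ Submodule.subset_span hx) fun x hx => ?_
  have h2 : x ∈ (Submodule.span S (t : Set S)).restrictScalars C := by
    show x ∈ Submodule.span S (t : Set S)
    rw [ht]; exact hx
  rwa [h1] at h2

/-- Noetherian local fibre product of two surjections. -/
theorem exists_fibreProduct {A B S S' : Type u} [CommRing A] [CommRing B] [CommRing S] [CommRing S'] [IsLocalRing A]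
    [IsLocalRing B] [IsLocalRing S] [IsLocalRing S'] [IsNoetherianRing S] [IsNoetherianRing S']
    [Algebra A S] [Algebra A S'] [IsLocalHom (algebraMap A S)] [Algebra A B] (g : S →ₐ[A] B) (g' : S' →ₐ[A] B)
    (hg : Function.Surjective g) (hg' : Function.Surjective g') :
    ∃ (C : Type u) (_ : CommRing C) (_ : IsLocalRing C) (_ : IsNoetherianRing C) (_ : Algebra A C)
      (_ : IsLocalHom (algebraMap A C)) (p : C →ₐ[A] S) (p' : C →ₐ[A] S'),
      Function.Surjective p ∧ Function.Surjective p' ∧ g.comp p = g'.comp p' := by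
  let C := AlgHom.equalizer (g.comp (AlgHom.fst A S S')) (g'.comp (AlgHom.snd A S S'))
  let p : C →ₐ[A] S := (AlgHom.fst A S S').comp C.val
  let p' : C →ₐ[A] S' := (AlgHom.snd A S S').comp C.val
  have hp : Function.Surjective p := fun s => by
    obtain ⟨s', hs'⟩ := hg' (g s)
    exact ⟨⟨(s, s'), hs'.symm⟩, rfl⟩
  have hp' : Function.Surjective p' := fun s' => by
    obtain ⟨s, hs⟩ := hg (g' s')
    exact ⟨⟨(s, s'), hs⟩, rfl⟩
  haveI : IsLocalHom g.toRingHom := Function.Surjective.isLocalHom g.toRingHom hg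
  haveI : IsLocalHom g'.toRingHom := Function.Surjective.isLocalHom g'.toRingHom hg'
  have hunit : ∀ x : C, IsUnit x ↔ IsUnit (p x) := by
    intro x
    refine ⟨fun h => h.map p, fun h => ?_⟩
    have h2 : IsUnit (p' x) := isUnit_of_map_unit g'.toRingHom _ (by
      show IsUnit (g' (p' x))
      rw [show g' (p' x) = g (p x) from x.2.symm]
      exact h.map g)
    obtain ⟨u, hu⟩ := h
    obtain ⟨v, hv⟩ := h2
    refine IsUnit.of_mul_eq_one (⟨((↑u⁻¹ : S), (↑v⁻¹ : S')), ?_⟩ : C) (Subtype.ext (Prod.ext ?_ ?_))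
    · show g (↑u⁻¹ : S) = g' (↑v⁻¹ : S')
      have e1 : g (p x) = g' (p' x) := x.2
      calc g (↑u⁻¹ : S) = g (↑u⁻¹ : S) * g' ((v : S') * (↑v⁻¹ : S')) := by rw [Units.mul_inv, map_one, mul_one]
        _ = g ((↑u⁻¹ : S) * (u : S)) * g' (↑v⁻¹ : S') := by rw [map_mul, map_mul, hu, e1, hv, mul_assoc]
        _ = g' (↑v⁻¹ : S') := by rw [Units.inv_mul, map_one, one_mul]
    · show p x * (↑u⁻¹ : S) = 1
      rw [← hu, Units.mul_inv]
    · show p' x * (↑v⁻¹ : S') = 1
      rw [← hv, Units.mul_inv]
  haveI : Nontrivial C := ⟨⟨0, 1, fun h => zero_ne_one (α := S) (by rw [← map_zero p, h, map_one])⟩⟩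
  haveI : IsLocalRing C := IsLocalRing.of_nonunits_add fun a b ha hb => by
    simp only [mem_nonunits_iff, hunit, map_add] at ha hb ⊢
    exact IsLocalRing.nonunits_add (R := S) ha hb
  haveI : IsLocalHom (algebraMap A C) := ⟨fun a ha => by
    have := (hunit _).mp ha
    rw [AlgHom.commutes] at this
    exact isUnit_of_map_unit (algebraMap A S) a this⟩
  haveI : IsNoetherianRing C := by
    letI := p.toRingHom.toAlgebra
    letI := p'.toRingHom.toAlgebra
    haveI : IsNoetherian C S := isNoetherian_of_surjective_algebraMap hp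
    haveI : IsNoetherian C S' := isNoetherian_of_surjective_algebraMap hp'
    exact isNoetherian_of_injective ((Algebra.linearMap C S).prod (Algebra.linearMap C S'))
      fun a b h => Subtype.ext (Prod.ext (congrArg Prod.fst h) (congrArg Prod.snd h))
  exact ⟨C, inferInstance, inferInstance, inferInstance, inferInstance, inferInstance, p, p', hp, hp',
    AlgHom.ext fun x => x.2⟩

end Groth.Agent.H11Tor
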