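import Groth.Agent.H8Props.PseudoCoh.TorDim
import Mathlib

/-!
Free resolutions over a free algebra and the vanishing forced by finite tor dimension over the base.
-/

set_option autoImplicit false
set_option linter.style.haveILetI false

universe u

namespace Groth.Agent.H11Tor

theorem exists_resolution {P : Type u} [CommRing P] [IsNoetherianRing P] (N : Submodule P (Fin 1 → P)) :
    ∃ (b : ℕ → ℕ) (hb : b 0 = 1) (d : ∀ n, (Fin (b (n + 1)) → P) →ₗ[P] (Fin (b n) → P)),
      LinearMap.range (d 0) = hb ▸ N ∧ ∀ n, LinearMap.range (d (n + 1)) = LinearMap.ker (d n) := by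
  have cover : ∀ {b : ℕ} (S : Submodule P (Fin b → P)),
      ∃ (b' : ℕ) (f : (Fin b' → P) →ₗ[P] (Fin b → P)), LinearMap.range f = S := by
    intro b S
    obtain ⟨b', f, hf⟩ := Module.Finite.exists_fin' P ↥S
    exact ⟨b', S.subtype.comp f, by rw [LinearMap.range_comp, LinearMap.range_eq_top.mpr hf, Submodule.map_top, Submodule.range_subtype]⟩
  choose cb cf hcf using @cover
  let st : ℕ → Σ' (b b' : ℕ), (Fin b' → P) →ₗ[P] (Fin b → P) := fun n =>
    Nat.rec ⟨1, cb N, cf N⟩ (fun _ s => ⟨s.2.1, cb (LinearMap.ker s.2.2), cf (LinearMap.ker s.2.2)⟩) n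
  exact ⟨fun n => (st n).1, rfl, fun n => (st n).2.2, hcf N, fun n => hcf (LinearMap.ker (st n).2.2)⟩

theorem flat_syzygy {R P : Type u} [CommRing R] [CommRing P] [Algebra R P] [Module.Free R P]
    (b : ℕ → ℕ) (d : ∀ n, (Fin (b (n + 1)) → P) →ₗ[P] (Fin (b n) → P))
    (hex : ∀ n, LinearMap.range (d (n + 1)) = LinearMap.ker (d n)) {k : ℕ}
    (hk : DRing.HasTorDimLE R k ((Fin (b 0) → P) ⧸ LinearMap.range (d 0))) :
    ∀ n, k ≤ n → Module.Flat R ↥((LinearMap.range (d n)).restrictScalars R) := by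
  have key : ∀ n, DRing.HasTorDimLE R (k - (n + 1)) ↥((LinearMap.range (d n)).restrictScalars R) := by
    intro n
    induction n with
    | zero =>
      have h1 := (H8Props.PseudoCoh.hasTorDimLE_succ_iff (n := k - 1)
        ((LinearMap.range (d 0)).mkQ.restrictScalars R) (Submodule.mkQ_surjective _)).mp
        (H8Props.PseudoCoh.hasTorDimLE_mono (by omega) hk)
      exact H8Props.PseudoCoh.hasTorDimLE_of_equiv
        (LinearEquiv.ofEq _ _ (by rw [LinearMap.ker_restrictScalars, Submodule.ker_mkQ])) h1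
    | succ n ih =>
      let f : (Fin (b (n + 1)) → P) →ₗ[R] ↥((LinearMap.range (d n)).restrictScalars R) :=
        ((d n).restrictScalars R).codRestrict _ fun x => LinearMap.mem_range_self (d n) x
      have hf : Function.Surjective f := by
        rintro ⟨_, x, rfl⟩
        exact ⟨x, rfl⟩
      have h1 := (H8Props.PseudoCoh.hasTorDimLE_succ_iff (n := k - (n + 1 + 1)) f hf).mp
        (H8Props.PseudoCoh.hasTorDimLE_mono (by omega) ih)
      exact H8Props.PseudoCoh.hasTorDimLE_of_equiv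
        (LinearEquiv.ofEq _ _ (by rw [LinearMap.ker_codRestrict, LinearMap.ker_restrictScalars, hex])) h1
  intro n hn
  rw [← H8Props.PseudoCoh.hasTorDimLE_zero_iff]
  exact H8Props.PseudoCoh.hasTorDimLE_mono (by omega) (key n)

/-- An element which is a cycle modulo an ideal of the base is a boundary modulo that ideal, when the
syzygy two steps below is flat. -/
theorem boundary_mod {R : Type u} [CommRing R] {F₀ F₁ F₂ F₃ : Type u} [AddCommGroup F₀] [Module R F₀]
    [AddCommGroup F₁] [Module R F₁] [AddCommGroup F₂] [Module R F₂] [AddCommGroup F₃] [Module R F₃]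
    (f₀ : F₁ →ₗ[R] F₀) (f₁ : F₂ →ₗ[R] F₁) (f₂ : F₃ →ₗ[R] F₂)
    (h₁ : LinearMap.range f₁ = LinearMap.ker f₀) (h₂ : LinearMap.range f₂ = LinearMap.ker f₁)
    [Module.Flat R ↥(LinearMap.range f₀)] (I : Ideal R) (x : F₂)
    (hx : f₁ x ∈ I • (⊤ : Submodule R F₁)) : ∃ y, x - f₂ y ∈ I • (⊤ : Submodule R F₂) := by
  have hrep : ∀ z ∈ I • (⊤ : Submodule R F₁), ∃ (n : ℕ) (a : Fin n → R) (y : Fin n → F₁),
      (∀ i, a i ∈ I) ∧ ∑ i, a i • y i = z := by
    intro z hz
    refine Submodule.smul_induction_on hz (fun a ha w _ => ⟨1, fun _ => a, fun _ => w, fun _ => ha, by simp⟩) ?_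
    rintro _ _ ⟨n, a, y, ha, rfl⟩ ⟨n', a', y', ha', rfl⟩
    refine ⟨n + n', Fin.append a a', Fin.append y y', fun i => ?_, ?_⟩
    · induction i using Fin.addCases with
      | left i => simpa using ha i
      | right i => simpa using ha' i
    · simp [Fin.sum_univ_add]
  obtain ⟨n, a, y, ha, hay⟩ := hrep _ hx
  have hrel : ∑ i, a i • (⟨f₀ (y i), LinearMap.mem_range_self _ _⟩ : LinearMap.range f₀) = 0 := by
    apply Subtype.ext
    have h0 : f₀ (f₁ x) = 0 := LinearMap.mem_ker.mp (h₁ ▸ LinearMap.mem_range_self f₁ x)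
    simp only [Submodule.coe_sum, Submodule.coe_smul, ZeroMemClass.coe_zero]
    rw [← h0, ← hay, map_sum]
    simp only [map_smul]
  obtain ⟨m, c, q, hq, hc⟩ := Module.Flat.isTrivialRelation_of_sum_smul_eq_zero hrel
  have hq' : ∀ l, ∃ z, f₀ z = (q l : F₀) := fun l => (q l).2
  choose z hz using hq'
  have hker : ∀ i, ∃ v, f₁ v = y i - ∑ l, c i l • z l := by
    intro i
    have : y i - ∑ l, c i l • z l ∈ LinearMap.ker f₀ := by
      rw [LinearMap.mem_ker, map_sub, map_sum]
      simp only [map_smul, hz]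
      rw [show f₀ (y i) = ((∑ l, c i l • q l : LinearMap.range f₀) : F₀) from congrArg Subtype.val (hq i)]
      simp
    rwa [← h₁] at this
  choose v hv using hker
  have h3 : x - ∑ i, a i • v i ∈ LinearMap.ker f₁ := by
    rw [LinearMap.mem_ker, map_sub, map_sum, ← hay]
    simp only [map_smul, hv, smul_sub, Finset.sum_sub_distrib, Finset.smul_sum, smul_smul]
    rw [Finset.sum_comm, sub_sub_cancel]
    refine Finset.sum_eq_zero fun l _ => ?_
    rw [← Finset.sum_smul, hc l, zero_smul]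
  rw [← h₂] at h3
  obtain ⟨w, hw⟩ := h3
  refine ⟨w, ?_⟩
  rw [hw, sub_sub_cancel]
  exact Submodule.sum_mem _ fun i _ => Submodule.smul_mem_smul (ha i) trivial

end Groth.Agent.H11Tor
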