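import Groth.Agent.H11Tor.Core
import Groth.Agent.H11Tor.Resolution

/-!
Finite tor dimension forces the obstruction of a lifted relation to be nilpotent.
-/

set_option autoImplicit false

universe u

namespace Groth.Agent.H11Tor

theorem coord_mem {A : Type u} [CommRing A] {J : Ideal A} {c : ℕ} {w : Fin c → A}
    (h : w ∈ J • (⊤ : Submodule A (Fin c → A))) (l : Fin c) : w l ∈ J := by
  refine Submodule.smul_induction_on h (fun a ha u _ => ?_) fun u v hu hv => add_mem hu hv
  exact J.mul_mem_right _ ha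

theorem mem_cast {P : Type u} [CommRing P] {c : ℕ} (hb : c = 1) (N : Submodule P (Fin 1 → P)) (z : Fin c → P) :
    z ∈ (hb ▸ N : Submodule P (Fin c → P)) ↔ (fun i => z (Fin.cast hb.symm i)) ∈ N := by
  subst hb
  exact Iff.rfl

theorem nilpotent_of_torDim {R P A : Type u} [CommRing R] [CommRing P] [CommRing A] [Algebra R P]
    [Module.Free R P] [IsNoetherianRing P] (ρ : A →+* P) (hρ : Function.Surjective ρ) (ε g : A)
    (hkρ : ∀ a, ρ a = 0 ↔ ∃ c, a = ε * c) (J : Ideal A) (hJ : ∀ a, ε * a = 0 ↔ a ∈ J) (hεJ : ε ∈ J)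
    (I : Ideal R) (hI : J.map ρ = I.map (algebraMap R P)) {m : ℕ} (f' r' : Fin m → A)
    (hsum : ∑ j, r' j * f' j = ε * g) (hrJ : ∀ j, r' j ∈ J)
    (htor : DRing.HasFiniteTorDim R (P ⧸ Ideal.span (Set.range fun j => ρ (f' j)))) :
    ∃ i : ℕ, ρ g ^ i ∈ Ideal.span (Set.range fun j => ρ (f' j)) ⊔ I.map (algebraMap R P) := by
  classical
  obtain ⟨k, hk⟩ := htor
  have hback : ∀ a, ρ a ∈ J.map ρ → a ∈ J := by
    intro a ha
    obtain ⟨a', ha', he⟩ := (Ideal.mem_map_iff_of_surjective ρ hρ).mp ha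
    obtain ⟨c, hc⟩ := (hkρ (a - a')).mp (by rw [map_sub, he, sub_self])
    rw [sub_eq_iff_eq_add.mp hc]
    exact add_mem (Ideal.mul_mem_right _ _ hεJ) ha'
  let N : Submodule P (Fin 1 → P) :=
    Submodule.comap (LinearMap.proj (R := P) (φ := fun _ : Fin 1 => P) 0) (Ideal.span (Set.range fun j => ρ (f' j)))
  obtain ⟨b, hb, d, hd0, hex⟩ := H11Tor.exists_resolution N
  let b0 : Fin (b 0) := Fin.cast hb.symm 0
  have hrange : ∀ z : Fin (b 0) → P, z ∈ LinearMap.range (d 0) ↔ z b0 ∈ Ideal.span (Set.range fun j => ρ (f' j)) := by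
    intro z
    rw [hd0]
    exact mem_cast hb N z
  have hker0 : LinearMap.range (d 0) = LinearMap.ker
      ((Ideal.span (Set.range fun j => ρ (f' j))).mkQ.comp (LinearMap.proj (φ := fun _ : Fin (b 0) => P) b0)) := by
    ext z
    rw [hrange, LinearMap.mem_ker]
    exact (Submodule.Quotient.mk_eq_zero _).symm
  let eS := (Submodule.quotEquivOfEq _ _ hker0).trans (LinearMap.quotKerEquivOfSurjective
    ((Ideal.span (Set.range fun j => ρ (f' j))).mkQ.comp (LinearMap.proj (φ := fun _ : Fin (b 0) => P) b0))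
    ((Submodule.mkQ_surjective _).comp fun t => ⟨fun _ => t, rfl⟩))
  have hflat := H11Tor.flat_syzygy (R := R) b d hex (k := k)
    (H8Props.PseudoCoh.hasTorDimLE_of_equiv (eS.symm.restrictScalars R) hk) (2 * k) (by omega)
  let ρv : ∀ {c : ℕ}, (Fin c → A) → (Fin c → P) := fun z l => ρ (z l)
  have hρv : ∀ {c : ℕ} (z : Fin c → P), ∃ z', ρv z' = z := fun z =>
    ⟨fun l => (hρ (z l)).choose, funext fun l => (hρ (z l)).choose_spec⟩
  have hρ0 : ∀ {c : ℕ} (z : Fin c → A), ρv z = 0 → ∃ w, z = ε • w :=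
    fun z hz => ⟨fun l => ((hkρ _).mp (congrFun hz l)).choose, funext fun l => ((hkρ _).mp (congrFun hz l)).choose_spec⟩
  let d' : ∀ p, (Fin (b (p + 1)) → A) →ₗ[A] (Fin (b p) → A) :=
    fun p => Fintype.linearCombination A fun l => (hρv (d p (Pi.single l 1))).choose
  have hdd' : ∀ p z, ρv (d' p z) = d p (ρv z) := by
    intro p z
    conv_rhs => rw [← Finset.univ_sum_single (ρv z)]
    rw [map_sum]
    ext1 e
    rw [Finset.sum_apply]
    show ρ (d' p z e) = _
    simp only [d', Fintype.linearCombination_apply, Finset.sum_apply, map_sum]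
    refine Finset.sum_congr rfl fun l _ => ?_
    rw [Pi.smul_apply, smul_eq_mul, map_mul,
      show ρ ((hρv (d p (Pi.single l 1))).choose e) = d p (Pi.single l 1) e from congrFun (hρv (d p (Pi.single l 1))).choose_spec e,
      show Pi.single l (ρv z l) = ρv z l • Pi.single l (1 : P) by rw [← Pi.single_smul, smul_eq_mul, mul_one],
      map_smul]
    rfl
  have hρadd : ∀ {c : ℕ} (z w : Fin c → A), ρv (z - w) = ρv z - ρv w := fun z w =>
    funext fun l => map_sub ρ _ _
  have hρf : ∀ {c : ℕ} (w : Fin c → A), ρv (ε • w) = 0 := fun w =>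
    funext fun l => (hkρ _).mpr ⟨w l, rfl⟩
  have hcore := H11Tor.core (ε) g J hJ hεJ f' r' hsum hrJ b d' (fun _ => 1)
    (fun p z => hρ0 _ (by
      rw [hdd', hdd']
      exact LinearMap.mem_ker.mp (hex p ▸ LinearMap.mem_range_self _ _)))
    (fun p z w hz => by
      have h2 : d p (ρv z) = 0 := by rw [← hdd', hz, hρf]
      obtain ⟨y, hy⟩ : ρv z ∈ LinearMap.range (d (p + 1)) := hex p ▸ h2
      obtain ⟨y', rfl⟩ := hρv y
      obtain ⟨v, hv⟩ := hρ0 (z - d' (p + 1) y') (by rw [hρadd, hdd', hy, sub_self])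
      exact ⟨y', v, by rw [← hv, add_sub_cancel]⟩)
    (fun j => by
      obtain ⟨y, hy⟩ : ρv (f' j • fun _ => 1) ∈ LinearMap.range (d 0) := by
        rw [hrange]
        show ρ (f' j * 1) ∈ _
        rw [mul_one, ]
        exact Ideal.subset_span ⟨j, rfl⟩
      obtain ⟨y', rfl⟩ := hρv y
      obtain ⟨v, hv⟩ := hρ0 (f' j • (fun _ => 1) - d' 0 y') (by rw [hρadd, hdd', hy, sub_self])
      exact ⟨y', v, by rw [← hv, add_sub_cancel]⟩)
    k (fun z hz => by
      have : Module.Flat R ↥(LinearMap.range ((d (2 * k)).restrictScalars R)) := hflat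
      have hto : ∀ {c : ℕ} (w : Fin c → A), w ∈ J • (⊤ : Submodule A (Fin c → A)) →
          ρv w ∈ I • (⊤ : Submodule R (Fin c → P)) := by
        intro c w hw
        rw [← Submodule.restrictScalars_top R P (Fin c → P), ← Ideal.smul_restrictScalars, Submodule.restrictScalars_mem, ← hI]
        refine Submodule.smul_induction_on hw (fun a ha u _ => ?_) fun u v hu hv => ?_
        · rw [show ρv (a • u) = ρ a • ρv u from funext fun l => map_mul ρ _ _]
          exact Submodule.smul_mem_smul (Ideal.mem_map_of_mem ρ ha) trivial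
        · rw [show ρv (u + v) = ρv u + ρv v from funext fun l => map_add ρ _ _]
          exact add_mem hu hv
      obtain ⟨y, hy⟩ := H11Tor.boundary_mod ((d (2 * k)).restrictScalars R) ((d (2 * k + 1)).restrictScalars R)
        ((d (2 * k + 2)).restrictScalars R)
        (by rw [LinearMap.range_restrictScalars, LinearMap.ker_restrictScalars, hex])
        (by rw [LinearMap.range_restrictScalars, LinearMap.ker_restrictScalars, hex])
        I (ρv z)
        (by
          show d (2 * k + 1) (ρv z) ∈ _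
          rw [← hdd']
          exact hto _ hz)
      obtain ⟨y', rfl⟩ := hρv y
      refine ⟨y', H11Tor.mem_smul_top_of_coord fun l => hback _ ?_⟩
      have h2 : ρv (z - d' (2 * k + 2) y') ∈ I • (⊤ : Submodule R _) := by
        rw [hρadd, hdd']; exact hy
      rw [← Submodule.restrictScalars_top R P (Fin _ → P), ← Ideal.smul_restrictScalars, Submodule.restrictScalars_mem, ← hI] at h2
      exact coord_mem h2 l)
  obtain ⟨y, hy⟩ := hcore
  refine ⟨k + 1, ?_⟩
  rw [← hI]
  have h3 : ρ (g ^ (k + 1) * 1 - d' 0 y b0) ∈ J.map ρ := Ideal.mem_map_of_mem ρ (coord_mem hy b0)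
  have h4 : ρ (d' 0 y b0) ∈ Ideal.span (Set.range fun j => ρ (f' j)) := by
    have h5 : ρv (d' 0 y) ∈ LinearMap.range (d 0) := by rw [hdd']; exact LinearMap.mem_range_self _ _
    exact (hrange _).mp h5
  rw [mul_one, map_sub, map_pow] at h3
  have := add_mem (Submodule.mem_sup_left (T := J.map ρ) h4)
    (Submodule.mem_sup_right (S := Ideal.span (Set.range fun j => ρ (f' j))) h3)
  rwa [add_sub_cancel] at this

end Groth.Agent.H11Tor
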