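import Groth.Agent.H11Tor.Local
import Groth.Agent.S2200
import Groth.Agent.H13CInt.MinGen
import Groth.Agent.H05EGA4.FlatRegular
import Groth.Agent.H29Slice.TransBC
import Groth.Agent.H24Def.FlatFS

/-!
Regular ideals in flat algebras with regular closed fibre: passing to a smaller such algebra.
-/

set_option autoImplicit false
set_option linter.style.haveILetI false
set_option linter.unusedSectionVars false

universe u

open RingTheory.Sequence IsLocalRing

namespace Groth.Agent.H11Tor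

/-- The predicate "cut out by a regular sequence". -/
abbrev RegIdeal {W : Type u} [CommRing W] (K : Ideal W) : Prop :=
  ∃ rs : List W, Ideal.ofList rs = K ∧ IsRegular W rs

theorem regIdeal_map_of_equiv {W W' : Type u} [CommRing W] [CommRing W'] (e : W ≃+* W') {K : Ideal W}
    (h : RegIdeal K) : RegIdeal (K.map (e : W →+* W')) := by
  obtain ⟨rs, hrs, hreg⟩ := h
  letI := (e : W →+* W').toAlgebra
  haveI : Module.FaithfullyFlat W W' := by
    let el : W ≃ₗ[W] W' := { e.toAddEquiv with map_smul' := fun a b => map_mul e a b }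
    exact Module.FaithfullyFlat.of_linearEquiv W W el.symm
  exact ⟨rs.map (algebraMap W W'), by rw [← Ideal.map_ofList, hrs]; rfl, IsRegular.of_faithfullyFlat hreg⟩

/-- Stacking a regular ideal on a regular ideal. -/
theorem regIdeal_stack {W : Type u} [CommRing W] [IsLocalRing W] [IsNoetherianRing W] {K J : Ideal W}
    (hKJ : K ≤ J) (hJ : J ≠ ⊤) (hK : RegIdeal K) (h : RegIdeal (J.map (Ideal.Quotient.mk K))) : RegIdeal J := by
  obtain ⟨rs, hrs, hreg⟩ := hK
  obtain ⟨rs', hrs', hreg'⟩ := h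
  obtain ⟨ts, rfl⟩ : ∃ ts : List W, ts.map (Ideal.Quotient.mk K) = rs' :=
    ⟨rs'.map fun z => (Ideal.Quotient.mk_surjective z).choose, by
      rw [List.map_map]
      exact (List.map_congr_left fun z _ => (Ideal.Quotient.mk_surjective z).choose_spec).trans (List.map_id _)⟩
  have hspan : Ideal.ofList (rs ++ ts) = J := by
    rw [Ideal.ofList_append, hrs]
    rw [← Ideal.map_ofList] at hrs'
    have := congrArg (Ideal.comap (Ideal.Quotient.mk K)) hrs'
    rw [Ideal.comap_map_of_surjective' _ Ideal.Quotient.mk_surjective,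
      Ideal.comap_map_of_surjective' _ Ideal.Quotient.mk_surjective, Ideal.mk_ker, sup_eq_left.mpr hKJ] at this
    rw [sup_comm]
    exact this
  refine ⟨_, hspan, ?_⟩
  rw [IsLocalRing.isRegular_iff_isWeaklyRegular_of_subset_maximalIdeal
    (fun z hz => IsLocalRing.le_maximalIdeal hJ (hspan.le (Ideal.subset_span hz))), isWeaklyRegular_append_iff]
  refine ⟨hreg.toIsWeaklyRegular, ?_⟩
  rw [hrs]
  exact ((Submodule.quotEquivOfEq _ _ (by simp)).isWeaklyRegular_congr ts).2
    ((isWeaklyRegular_map_algebraMap_iff (W ⧸ K) (W ⧸ K) ts).1 hreg'.toIsWeaklyRegular)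

theorem hasTorDimLE_of_regIdeal {W : Type u} [CommRing W] {J : Ideal W} (h : RegIdeal J) :
    ∃ m, DRing.HasTorDimLE W m (W ⧸ J) := by
  obtain ⟨rs, hrs, hreg⟩ := h
  exact ⟨0 + rs.length, H8Props.PseudoCoh.hasTorDimLE_of_equiv
    (Submodule.quotEquivOfEq _ _ (by simp [hrs]))
    (H8Props.PseudoCoh.fpInf_torDim_quotient_smul rs W 0 hreg.toIsWeaklyRegular
      (H8Props.PseudoCoh.fpInf_of_finite_projective _) (H8Props.PseudoCoh.hasTorDimLE_of_flat 0 _)).2⟩

variable {A W : Type u} [CommRing A] [CommRing W] [Algebra A W] [IsLocalRing A] [IsLocalRing W]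
  [IsNoetherianRing A] [IsNoetherianRing W] [IsLocalHom (algebraMap A W)] [Module.Flat A W]

/-- The kernel of a surjection onto a flat algebra with regular closed fibre is a regular ideal. -/
theorem regIdeal_of_flat_quotient [IsRegularLocalRing (W ⧸ (maximalIdeal A).map (algebraMap A W))] (K : Ideal W)
    (hK : K ≠ ⊤) [Module.Flat A (W ⧸ K)]
    [IsRegularLocalRing ((W ⧸ K) ⧸ (maximalIdeal A).map (algebraMap A (W ⧸ K)))] : RegIdeal K := by
  classical
  set M := (maximalIdeal A).map (algebraMap A W) with hM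
  let eF : (W ⧸ M) ⧸ K.map (Ideal.Quotient.mk M) ≃+* (W ⧸ K) ⧸ (maximalIdeal A).map (algebraMap A (W ⧸ K)) :=
    (DoubleQuot.quotQuotEquivComm M K).trans (Ideal.quotEquivOfEq (by
      rw [hM, Ideal.map_map]
      rfl))
  haveI : IsRegularLocalRing ((W ⧸ M) ⧸ K.map (Ideal.Quotient.mk M)) := IsRegularLocalRing.of_ringEquiv eF.symm
  obtain ⟨a, f, hf, hfK⟩ := H13CInt.exists_fun_of_isRegularIdeal
    (H13CInt.isRegularIdeal_of_regular_quotient (K.map (Ideal.Quotient.mk M)))
  have hlift : ∀ i, ∃ x ∈ K, Ideal.Quotient.mk M x = f i := fun i =>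
    (Ideal.mem_map_iff_of_surjective _ Ideal.Quotient.mk_surjective).mp (hfK.le (Ideal.subset_span ⟨i, rfl⟩))
  choose x hxK hx using hlift
  have hle : Ideal.span (Set.range x) ≤ K := Ideal.span_le.mpr (by rintro _ ⟨i, rfl⟩; exact hxK i)
  have hpure : ∀ y ∈ K, y ∈ M → y ∈ maximalIdeal W * K := by
    intro y hyK hyM
    haveI : Module.Flat A ↥(LinearMap.range (Ideal.Quotient.mkₐ A K).toLinearMap) :=
      Module.Flat.of_linearEquiv (LinearEquiv.ofTop _ (LinearMap.range_eq_top.mpr Ideal.Quotient.mk_surjective))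
    have hy : y ∈ (maximalIdeal A) • (⊤ : Submodule A W) := by
      rw [Ideal.smul_top_eq_map]
      exact hyM
    obtain ⟨w, hw⟩ := boundary_mod (F₃ := PUnit.{u + 1}) (Ideal.Quotient.mkₐ A K).toLinearMap
      (K.subtype.restrictScalars A) 0
      (by
        ext z
        show (∃ v : K, (v : W) = z) ↔ Ideal.Quotient.mk K z = 0
        rw [Ideal.Quotient.eq_zero_iff_mem]
        exact ⟨fun ⟨v, hv⟩ => hv ▸ v.2, fun h => ⟨⟨z, h⟩, rfl⟩⟩)
      (by rw [LinearMap.range_zero, LinearMap.ker_restrictScalars, Submodule.ker_subtype, Submodule.restrictScalars_bot])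
      (maximalIdeal A) ⟨y, hyK⟩ hy
    rw [LinearMap.zero_apply, sub_zero] at hw
    have : (K.subtype.restrictScalars A) ⟨y, hyK⟩ ∈ ((maximalIdeal A) • (⊤ : Submodule A K)).map (K.subtype.restrictScalars A) :=
      ⟨_, hw, rfl⟩
    rw [Submodule.map_smul''] at this
    have h' : y ∈ maximalIdeal A • Submodule.map (K.subtype.restrictScalars A) (⊤ : Submodule A K) := this
    refine Submodule.smul_induction_on h' (fun r hr z hz => ?_) fun _ _ h1 h2 => add_mem h1 h2
    obtain ⟨v, -, rfl⟩ := hz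
    rw [Algebra.smul_def]
    exact Ideal.mul_mem_mul (map_maximalIdeal_le (algebraMap A W) (Ideal.mem_map_of_mem _ hr)) v.2
  have hspan : Ideal.span (Set.range x) = K := by
    refine le_antisymm hle (Submodule.le_of_le_smul_of_le_jacobson_bot (IsNoetherian.noetherian K)
      (IsLocalRing.maximalIdeal_le_jacobson ⊥) ?_)
    intro y hy
    have h1 : Ideal.Quotient.mk M y ∈ (Ideal.span (Set.range x)).map (Ideal.Quotient.mk M) := by
      rw [Ideal.map_span, ← Set.range_comp, show (Ideal.Quotient.mk M : W → W ⧸ M) ∘ x = f from funext hx, hfK]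
      exact Ideal.mem_map_of_mem _ hy
    obtain ⟨z, hz, hzy⟩ := (Ideal.mem_map_iff_of_surjective _ Ideal.Quotient.mk_surjective).mp h1
    refine Submodule.mem_sup.mpr ⟨z, hz, y - z, hpure _ (sub_mem hy (hle hz)) (Ideal.Quotient.eq.mp hzy.symm), ?_⟩
    rw [add_sub_cancel]
  refine ⟨List.ofFn x, by rw [H13CInt.ofList_ofFn, hspan], ?_⟩
  rw [IsLocalRing.isRegular_iff_isWeaklyRegular_of_subset_maximalIdeal
    (List.forall_mem_ofFn_iff.2 fun i => le_maximalIdeal hK (hxK i))]
  refine (H05EGA4.isWeaklyRegular_and_flat_of_fibre (A := A) (List.ofFn x) W ?_).1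
  refine ((Submodule.quotEquivOfEq _ _ (by simp [hM])).isWeaklyRegular_congr (List.ofFn x)).2
    ((isWeaklyRegular_map_algebraMap_iff (W ⧸ M) (W ⧸ M) (List.ofFn x)).1 ?_)
  rw [List.map_ofFn, show (algebraMap W (W ⧸ M)) ∘ x = f from funext hx]
  exact hf.toIsWeaklyRegular

/-- Regularity of an ideal can be tested in a smaller flat algebra with regular closed fibre. -/
theorem regIdeal_iff_quotient [IsRegularLocalRing (W ⧸ (maximalIdeal A).map (algebraMap A W))] (K J : Ideal W)
    (hKJ : K ≤ J) (hJ : J ≠ ⊤) [Module.Flat A (W ⧸ K)]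
    [IsRegularLocalRing ((W ⧸ K) ⧸ (maximalIdeal A).map (algebraMap A (W ⧸ K)))] :
    RegIdeal J ↔ RegIdeal (J.map (Ideal.Quotient.mk K)) := by
  classical
  have hK : K ≠ ⊤ := ne_top_of_le_ne_top hJ hKJ
  refine ⟨fun hJreg => ?_, regIdeal_stack hKJ hJ (regIdeal_of_flat_quotient (A := A) K hK)⟩
  haveI : Nontrivial (W ⧸ K) := Ideal.Quotient.nontrivial_iff.2 hK
  haveI : IsLocalRing (W ⧸ K) := IsLocalRing.of_surjective' _ Ideal.Quotient.mk_surjective
  haveI : IsLocalHom (Ideal.Quotient.mk K) := IsLocalHom.of_surjective _ Ideal.Quotient.mk_surjective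
  haveI : IsLocalHom (algebraMap A (W ⧸ K)) := RingHom.isLocalHom_comp (Ideal.Quotient.mk K) (algebraMap A W)
  letI : Algebra (W ⧸ K) (W ⧸ J) := (Ideal.Quotient.factor hKJ).toAlgebra
  haveI : IsScalarTower W (W ⧸ K) (W ⧸ J) := IsScalarTower.of_algebraMap_eq fun _ => rfl
  haveI : IsScalarTower A (W ⧸ K) (W ⧸ J) := IsScalarTower.of_algebraMap_eq fun _ => rfl
  haveI : Module.Finite (W ⧸ K) (W ⧸ J) :=
    Module.Finite.of_surjective (Algebra.linearMap (W ⧸ K) (W ⧸ J)) (Ideal.Quotient.factor_surjective hKJ)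
  obtain ⟨e, he⟩ := H8Props.PseudoCoh.exists_natCast_ge_ringKrullDim
    (ringKrullDim_lt_top (R := (W ⧸ K) ⧸ (maximalIdeal A).map (algebraMap A (W ⧸ K))))
  obtain ⟨m, hm⟩ := hasTorDimLE_of_regIdeal hJreg
  have h1 : DRing.HasTorDimLE A (0 + m) (W ⧸ J) :=
    H8Props.PseudoCoh.hasTorDimLE_trans (H8Props.PseudoCoh.hasTorDimLE_of_flat (A := A) 0 W) hm
  exact (Groth.Agent.S2200.result K J hKJ hJ
    ⟨e + (0 + m), hasTorDimLE_of_regular_fibre e he _ _ h1⟩ hJreg).2

/-- Regularity of an ideal is insensitive to a faithfully flat local extension. -/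
theorem regIdeal_map_iff {R S : Type u} [CommRing R] [CommRing S] [IsLocalRing R] [IsLocalRing S]
    [IsNoetherianRing R] [IsNoetherianRing S] [Algebra R S] [IsLocalHom (algebraMap R S)] [Module.Flat R S]
    (I : Ideal R) (hI : I ≠ ⊤) : RegIdeal (I.map (algebraMap R S)) ↔ RegIdeal I := by
  classical
  haveI : Module.FaithfullyFlat R S := Module.FaithfullyFlat.of_flat_of_isLocalHom
  constructor
  swap
  · rintro ⟨rs, hrs, hreg⟩
    exact ⟨rs.map (algebraMap R S), by rw [← Ideal.map_ofList, hrs], IsRegular.of_faithfullyFlat hreg⟩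
  intro h
  obtain ⟨a, x, -, hx, hminx⟩ := H13CInt.exists_completion (Fin.elim0 : Fin 0 → R) (J := I) (K := I) (by simp)
  simp only [Set.range_eq_empty, Ideal.span_empty, bot_sup_eq] at hx
  have hmin : H13CInt.MinGen x := fun c hc => hminx Fin.elim0 c (by simpa using hc)
  have hxm : ∀ i, x i ∈ maximalIdeal R := fun i =>
    IsLocalRing.le_maximalIdeal hI (hx.le (Ideal.subset_span ⟨i, rfl⟩))
  have hminS : H13CInt.MinGen (algebraMap R S ∘ x) := by
    intro c hc i
    obtain ⟨k, b, y, hy, hb⟩ := Module.Flat.isTrivialRelation_of_sum_smul_eq_zero (R := R) (f := x) (x := c)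
      (by rw [← hc]; exact Finset.sum_congr rfl fun i _ => by rw [Algebra.smul_def, mul_comm]; rfl)
    rw [hy i]
    refine Ideal.sum_mem _ fun l _ => ?_
    rw [Algebra.smul_def]
    refine Ideal.mul_mem_right _ _ (IsLocalRing.map_maximalIdeal_le (algebraMap R S) (Ideal.mem_map_of_mem _ ?_))
    exact hmin (fun i => b i l) (by rw [← hb l]; exact Finset.sum_congr rfl fun i _ => mul_comm _ _) i
  obtain ⟨rs, hrs, hreg⟩ := h
  obtain ⟨n, f, hf, hfI⟩ := H13CInt.exists_fun_of_isRegularIdeal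
    (show CInt.IsRegularIdeal (I.map (algebraMap R S)) from ⟨rs, hreg, hrs⟩)
  have hne : I.map (algebraMap R S) ≠ ⊤ := ne_top_of_le_ne_top (maximalIdeal.isMaximal S).ne_top
    ((Ideal.map_mono (IsLocalRing.le_maximalIdeal hI)).trans (IsLocalRing.map_maximalIdeal_le (algebraMap R S)))
  have hr := H13CInt.isRegular_of_minGen hf.toIsWeaklyRegular
    (fun i => IsLocalRing.le_maximalIdeal hne (hfI.le (Ideal.subset_span ⟨i, rfl⟩)))
    (by rw [hfI, Set.range_comp, ← Ideal.map_span, hx]) hminS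
  refine ⟨List.ofFn x, by rw [H13CInt.ofList_ofFn, hx], ?_⟩
  rw [IsLocalRing.isRegular_iff_isWeaklyRegular_of_subset_maximalIdeal (List.forall_mem_ofFn_iff.2 hxm),
    H29Slice.isWeaklyRegular_iff_elementwise]
  have hw := hr.toIsWeaklyRegular
  rw [← List.map_ofFn, H29Slice.isWeaklyRegular_iff_elementwise] at hw
  intro i hi z hz
  have h1 := hw i (by simpa using hi) (algebraMap R S z)
  rw [List.getElem_map, ← List.map_take, ← Ideal.map_ofList, ← map_mul] at h1
  have h2 := h1 (Ideal.mem_map_of_mem _ hz)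
  have h3 : z ∈ ((Ideal.ofList ((List.ofFn x).take i)).map (algebraMap R S)).comap (algebraMap R S) := h2
  rwa [Ideal.comap_map_eq_self_of_faithfullyFlat] at h3

end Groth.Agent.H11Tor
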