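import Groth.Agent.H8Props.PseudoCoh.TorDim
import Groth.Agent.H8Props.PseudoCoh.BaseChange
import Groth.Agent.H8Props.PseudoCoh.Regular
import Groth.Agent.H7Flat.LocalCriterion
import Groth.Agent.H7Flat.FibreCriterion
import Groth.Agent.H11Tor.Resolution
import Groth.Agent.H05EGA4.Regular
import Mathlib

/-!
Tor dimension over a local base from Tor with the residue field; passage to a flat algebra with regular
closed fibre.
-/

set_option autoImplicit false
set_option linter.style.haveILetI false
set_option linter.unusedSectionVars false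

universe u

open CategoryTheory CategoryTheory.Limits TensorProduct

namespace Groth.Agent.H11Tor

variable {R B : Type u} [CommRing R] [CommRing B] [Algebra R B] [IsLocalRing R] [IsLocalRing B]
  [IsNoetherianRing R] [IsNoetherianRing B] [IsLocalHom (algebraMap R B)] [Module.Flat R B]

/-- The free cover of a finite module. -/
theorem exists_cover (M : Type u) [AddCommGroup M] [Module B M] [Module.Finite B M] :
    ∃ (r : ℕ) (f : (Fin r → B) →ₗ[B] M), Function.Surjective f :=
  Module.Finite.exists_fin' B M

instance flat_pi_fin (r : ℕ) : Module.Flat R (Fin r → B) :=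
  Module.Flat.trans R B (Fin r → B)

/-- The kernel of a restriction of scalars. -/
def kerRestrict {X Y : Type u} [AddCommGroup X] [Module B X] [Module R X] [IsScalarTower R B X]
    [AddCommGroup Y] [Module B Y] [Module R Y] [IsScalarTower R B Y] (f : X →ₗ[B] Y) :
    ↥(LinearMap.ker f) ≃ₗ[R] ↥(LinearMap.ker (f.restrictScalars R)) where
  toFun x := ⟨x.1, x.2⟩
  invFun x := ⟨x.1, x.2⟩
  map_add' _ _ := rfl
  map_smul' _ _ := rfl
  left_inv _ := rfl
  right_inv _ := rfl

/-- Vanishing of `Tor` with the residue field bounds the tor dimension of a module finite over a local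
algebra. -/
theorem hasTorDimLE_of_tor_residue : ∀ (n : ℕ) (M : Type u) [AddCommGroup M] [Module B M] [Module R M]
    [IsScalarTower R B M] [Module.Finite B M],
    (∀ p, n < p → IsZero (((CategoryTheory.Tor (ModuleCat.{u} R) p).obj (ModuleCat.of R M)).obj
      (ModuleCat.of R (R ⧸ IsLocalRing.maximalIdeal R)))) → DRing.HasTorDimLE R n M
  | 0, M, _, _, _, _, _, h => by
    rw [H8Props.PseudoCoh.hasTorDimLE_zero_iff]
    refine H7Flat.flat_of_injective (S := B) ?_
    let S : ShortComplex (ModuleCat.{u} R) :=
      ShortComplex.mk (ModuleCat.ofHom (IsLocalRing.maximalIdeal R).subtype)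
        (ModuleCat.ofHom (Submodule.mkQ (IsLocalRing.maximalIdeal R))) (by
          ext x
          exact (Submodule.Quotient.mk_eq_zero _).mpr x.2)
    have hS : S.ShortExact :=
      { exact := (ShortComplex.moduleCat_exact_iff_range_eq_ker _).mpr
          ((Submodule.range_subtype _).trans (Submodule.ker_mkQ _).symm)
        mono_f := (ModuleCat.mono_iff_injective _).mpr Subtype.val_injective
        epi_g := (ModuleCat.epi_iff_surjective _).mpr (Submodule.Quotient.mk_surjective _) }
    haveI : Projective S.X₂ := ModuleCat.projective_of_categoryTheory_projective (ModuleCat.of R R)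
    exact (H3CAlg.Tor.isZero_one_iff_injective (ModuleCat.of R M) S hS).mp (h 1 one_pos)
  | n + 1, M, _, _, _, _, _, h => by
    obtain ⟨r, f, hf⟩ := exists_cover (B := B) M
    haveI : IsScalarTower R B ↥(LinearMap.ker f) := ⟨fun a b x => Subtype.ext (smul_assoc a b x.1)⟩
    refine (H8Props.PseudoCoh.hasTorDimLE_succ_iff (f.restrictScalars R) hf).mpr ?_
    haveI : Module.Finite B ↥(LinearMap.ker f) := Module.Finite.iff_fg.mpr (IsNoetherian.noetherian _)
    refine H8Props.PseudoCoh.hasTorDimLE_of_equiv (kerRestrict f)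
      (hasTorDimLE_of_tor_residue n _ fun q hq => ?_)
    have hex : Function.Exact ((LinearMap.ker f).subtype.restrictScalars R) (f.restrictScalars R) :=
      LinearMap.exact_subtype_ker_map f
    obtain ⟨-, -, δ, w₁, w₂, -, ex⟩ := H3CAlg.Tor.les₁ (ModuleCat.of R (R ⧸ IsLocalRing.maximalIdeal R))
      (H8Props.PseudoCoh.seq hex) (H8Props.PseudoCoh.seq_shortExact (i := (LinearMap.ker f).subtype.restrictScalars R) (p := f.restrictScalars R) Subtype.val_injective hf hex) q
    exact ex.isZero_X₂ ((h (q + 1) (by omega)).eq_of_src _ _)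
      ((H8Props.PseudoCoh.hasTorDimLE_iff_isZero.mp
        (H8Props.PseudoCoh.hasTorDimLE_of_flat n (Fin r → B)) _ q hq).eq_of_tgt _ _)

/-- A kernel of a map onto a flat module stays injective after reduction. -/
theorem baseChange_ker_injective {M : Type u} [AddCommGroup M] [Module B M] [Module R M]
    [IsScalarTower R B M] [Module.Flat R M] {r : ℕ} (f : (Fin r → B) →ₗ[B] M) (hf : Function.Surjective f)
    (I : Ideal R) :
    Function.Injective ((LinearMap.ker f).subtype.baseChange (B ⧸ I.map (algebraMap R B))) := by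
  rw [injective_iff_map_eq_zero]
  intro z hz
  obtain ⟨z, rfl⟩ := (TensorProduct.quotTensorEquivQuotSMul ↥(LinearMap.ker f) (I.map (algebraMap R B))).symm.surjective z
  obtain ⟨x, rfl⟩ := Submodule.Quotient.mk_surjective _ z
  rw [TensorProduct.quotTensorEquivQuotSMul_symm_mk] at hz ⊢
  have h1 := congrArg (TensorProduct.quotTensorEquivQuotSMul (Fin r → B) (I.map (algebraMap R B))) hz
  rw [map_zero, LinearMap.baseChange_tmul, ← map_one (Ideal.Quotient.mk (I.map (algebraMap R B))),
    TensorProduct.quotTensorEquivQuotSMul_mk_tmul, one_smul, Submodule.Quotient.mk_eq_zero] at h1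
  have h2 : x.1 ∈ I • (⊤ : Submodule R (Fin r → B)) := by
    rw [← Submodule.restrictScalars_top R B (Fin r → B), ← Ideal.smul_restrictScalars]
    exact h1
  haveI : Module.Flat R ↥(LinearMap.range (f.restrictScalars R)) :=
    Module.Flat.of_linearEquiv (LinearEquiv.ofTop (LinearMap.range (f.restrictScalars R)) (LinearMap.range_eq_top.mpr hf))
  obtain ⟨y, hy⟩ := boundary_mod (F₃ := PUnit.{u + 1}) (f.restrictScalars R)
    ((LinearMap.ker f).subtype.restrictScalars R) 0
    (by rw [LinearMap.range_restrictScalars, Submodule.range_subtype, LinearMap.ker_restrictScalars])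
    (by rw [LinearMap.range_zero, LinearMap.ker_restrictScalars, Submodule.ker_subtype, Submodule.restrictScalars_bot])
    I x h2
  rw [LinearMap.zero_apply, sub_zero] at hy
  have h3 : x ∈ I.map (algebraMap R B) • (⊤ : Submodule B ↥(LinearMap.ker f)) := by
    have h4 : x ∈ (I.map (algebraMap R B) • (⊤ : Submodule B ↥(LinearMap.ker f))).restrictScalars R := by
      rw [Ideal.smul_restrictScalars, Submodule.restrictScalars_top]
      exact hy
    exact h4
  rw [← TensorProduct.quotTensorEquivQuotSMul_symm_mk, (Submodule.Quotient.mk_eq_zero _).mpr h3, map_zero]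

/-- Tor dimension over the algebra of a flat module, from the closed fibre. -/
theorem hasTorDimLE_of_flat_fibre : ∀ (e : ℕ) (M : Type u) [AddCommGroup M] [Module B M] [Module R M]
    [IsScalarTower R B M] [Module.Finite B M] [Module.Flat R M],
    DRing.HasTorDimLE (B ⧸ (IsLocalRing.maximalIdeal R).map (algebraMap R B)) e
      ((B ⧸ (IsLocalRing.maximalIdeal R).map (algebraMap R B)) ⊗[B] M) → DRing.HasTorDimLE B e M
  | 0, M, _, _, _, _, _, _, h => by
    have hne : (IsLocalRing.maximalIdeal R).map (algebraMap R B) ≠ ⊤ :=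
      ne_top_of_le_ne_top (IsLocalRing.maximalIdeal.isMaximal B).ne_top
        (IsLocalRing.map_maximalIdeal_le (algebraMap R B))
    haveI := H8Props.PseudoCoh.hasTorDimLE_zero_iff.mp h
    exact H8Props.PseudoCoh.hasTorDimLE_zero_iff.mpr (H7Flat.flat_of_injective_of_flat_quotient (R := B) (S := B)
      _ hne (H7Flat.lTensor_map_injective (IsLocalRing.maximalIdeal R)))
  | e + 1, M, _, _, _, _, _, _, h => by
    obtain ⟨r, f, hf⟩ := exists_cover (B := B) M
    haveI : Module.Finite B ↥(LinearMap.ker f) := Module.Finite.iff_fg.mpr (IsNoetherian.noetherian _)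
    have hex : Function.Exact ((LinearMap.ker f).subtype.restrictScalars R) (f.restrictScalars R) :=
      LinearMap.exact_subtype_ker_map f
    haveI : Module.Flat R ↥(LinearMap.ker f) := H8Props.PseudoCoh.hasTorDimLE_zero_iff.mp
      (H8Props.PseudoCoh.hasTorDimLE_sub (p := f.restrictScalars R) (i := (LinearMap.ker f).subtype.restrictScalars R)
        Subtype.val_injective hf hex (H8Props.PseudoCoh.hasTorDimLE_of_flat 0 _)
        (H8Props.PseudoCoh.hasTorDimLE_of_flat 1 M))
    refine (H8Props.PseudoCoh.hasTorDimLE_succ_iff f hf).mpr (hasTorDimLE_of_flat_fibre e _ ?_)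
    exact H8Props.PseudoCoh.hasTorDimLE_of_equiv
      (H8Props.PseudoCoh.kerBaseChangeEquiv _ f hf (baseChange_ker_injective f hf _)).symm
      ((H8Props.PseudoCoh.hasTorDimLE_succ_iff _ (LinearMap.lTensor_surjective _ hf)).mp h)

/-- Tor dimension over an algebra with regular closed fibre, from tor dimension over the base. -/
theorem hasTorDimLE_of_regular_fibre
    [IsRegularLocalRing (B ⧸ (IsLocalRing.maximalIdeal R).map (algebraMap R B))] (e : ℕ)
    (he : ringKrullDim (B ⧸ (IsLocalRing.maximalIdeal R).map (algebraMap R B)) ≤ e) :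
    ∀ (n : ℕ) (M : Type u) [AddCommGroup M] [Module B M] [Module R M] [IsScalarTower R B M]
      [Module.Finite B M], DRing.HasTorDimLE R n M → DRing.HasTorDimLE B (e + n) M
  | 0, M, _, _, _, _, _, h => by
    haveI := H8Props.PseudoCoh.hasTorDimLE_zero_iff.mp h
    haveI := H05EGA4.isRegularRing_of_isRegularLocalRing (B ⧸ (IsLocalRing.maximalIdeal R).map (algebraMap R B))
    exact hasTorDimLE_of_flat_fibre e M (H8Props.PseudoCoh.hasTorDimLE_of_isRegularRing he _)
  | n + 1, M, _, _, _, _, _, h => by
    obtain ⟨r, f, hf⟩ := exists_cover (B := B) M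
    haveI : Module.Finite B ↥(LinearMap.ker f) := Module.Finite.iff_fg.mpr (IsNoetherian.noetherian _)
    refine (H8Props.PseudoCoh.hasTorDimLE_succ_iff f hf).mpr (hasTorDimLE_of_regular_fibre e he n _ ?_)
    exact H8Props.PseudoCoh.hasTorDimLE_of_equiv
      (kerRestrict f).symm
      ((H8Props.PseudoCoh.hasTorDimLE_succ_iff (f.restrictScalars R) hf).mp h)

end Groth.Agent.H11Tor
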